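import Mathlib
import Cfsg.Agent.S1526
import Cfsg.Agent.S1527
import Cfsg.Agent.Lib.Involutions.Basic

/-!
# Groups with transitive commutation on non-identity elements: first facts

`IsCT G`: commuting is transitive on non-identity elements.  Centralisers of non-identity elements
are abelian, equal or with trivial intersection.  A non-abelian simple one has even order.
-/

set_option autoImplicit false

namespace Cfsg.Agent.Lib.CASimple67

/-- Commuting is transitive on the non-identity elements. -/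
def IsCT (G : Type*) [Group G] : Prop :=
  ∀ a b c : G, a ≠ 1 → b ≠ 1 → c ≠ 1 → Commute a b → Commute b c → Commute a c

variable {G : Type*} [Group G]

/-- The centraliser of an element. -/
abbrev cen (x : G) : Subgroup G := Subgroup.centralizer ({x} : Set G)

theorem mem_cen {x y : G} : y ∈ cen x ↔ y * x = x * y := Subgroup.mem_centralizer_singleton_iff

theorem self_mem (x : G) : x ∈ cen x := mem_cen.2 rfl

theorem conj_mem_cen {g x y : G} : g * y * g⁻¹ ∈ cen (g * x * g⁻¹) ↔ y ∈ cen x := by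
  simp only [mem_cen]
  constructor
  · intro h
    have := congrArg (fun z => g⁻¹ * z * g) h
    simpa [mul_assoc] using this
  · intro h
    calc g * y * g⁻¹ * (g * x * g⁻¹) = g * (y * x) * g⁻¹ := by group
      _ = g * (x * y) * g⁻¹ := by rw [h]
      _ = g * x * g⁻¹ * (g * y * g⁻¹) := by group

theorem mem_cen_conj {g x y : G} : y ∈ cen (g * x * g⁻¹) ↔ g⁻¹ * y * g ∈ cen x := by
  rw [← conj_mem_cen (g := g) (y := g⁻¹ * y * g)]
  simp [mul_assoc]

variable (h : IsCT G)
include h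

theorem comm_of_mem {x : G} (hx : x ≠ 1) {a b : G} (ha : a ∈ cen x) (hb : b ∈ cen x) :
    a * b = b * a := by
  rcases eq_or_ne a 1 with rfl | ha1
  · simp
  rcases eq_or_ne b 1 with rfl | hb1
  · simp
  exact h a x b ha1 hx hb1 (mem_cen.1 ha) (mem_cen.1 hb).symm

theorem cen_eq {x y : G} (hx : x ≠ 1) (hy : y ∈ cen x) (hy1 : y ≠ 1) : cen y = cen x := by
  ext z
  constructor
  · intro hz
    exact mem_cen.2 (comm_of_mem h hy1 hz (mem_cen.2 (mem_cen.1 hy).symm))
  · intro hz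
    exact mem_cen.2 (comm_of_mem h hx hz hy)

theorem eq_of_meet {x y z : G} (hx : x ≠ 1) (hy : y ≠ 1) (hzx : z ∈ cen x) (hzy : z ∈ cen y)
    (hz : z ≠ 1) : cen x = cen y := (cen_eq h hx hzx hz).symm.trans (cen_eq h hy hzy hz)

theorem isMulCommutative_cen {x : G} (hx : x ≠ 1) : IsMulCommutative (cen x) :=
  ⟨⟨fun a b => Subtype.ext (comm_of_mem h hx a.2 b.2)⟩⟩

theorem mem_normalizer_of_meet {x k g : G} (hx : x ≠ 1) (hk : k ∈ cen x) (hk1 : k ≠ 1)
    (hg : g * k * g⁻¹ ∈ cen x) : g ∈ Subgroup.normalizer (cen x : Set G) := by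
  have hk2 : g * k * g⁻¹ ≠ 1 := fun e => hk1 (conj_eq_one_iff.1 e)
  have e1 : cen (g * x * g⁻¹) = cen x :=
    eq_of_meet h (fun e => hx (conj_eq_one_iff.1 e)) hx (conj_mem_cen.2 hk) hg hk2
  rw [Subgroup.mem_normalizer_iff]
  intro z
  constructor
  · intro hz
    exact e1 ▸ conj_mem_cen.2 hz
  · intro hz
    exact conj_mem_cen.1 (e1.symm ▸ hz)

theorem conj_mem_of_normalizes {x g : G} (hx : x ≠ 1)
    (hg : g ∈ Subgroup.normalizer (cen x : Set G)) {k : G} (hk : k ∈ cen x) :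
    g * k * g⁻¹ ∈ cen x := (Subgroup.mem_normalizer_iff.1 hg k).1 hk

theorem isTI {x : G} (hx : x ≠ 1) : ∀ g : G, g ∉ Subgroup.normalizer (cen x : Set G) →
    ∀ k ∈ cen x, g * k * g⁻¹ ∈ cen x → k = 1 := by
  intro g hg k hk hgk
  by_contra hk1
  exact hg (mem_normalizer_of_meet h hx hk hk1 hgk)

omit h in
theorem index_normalizer_mul [Finite G] (H : Subgroup G) :
    (Subgroup.normalizer (H : Set G)).index * Nat.card (Subgroup.normalizer (H : Set G)) =
      Nat.card G := Subgroup.index_mul_card _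

/-- `p` does not divide the index of the centraliser of a central element of a Sylow subgroup,
and every `p`-element lies in a conjugate of it. -/
theorem exists_hall [Finite G] (p : ℕ) [Fact p.Prime] (hp : p ∣ Nat.card G) :
    ∃ (z : G) (P : Sylow p G), z ≠ 1 ∧ z ∈ (P : Subgroup G) ∧ (P : Subgroup G) ≤ cen z := by
  obtain ⟨P⟩ : Nonempty (Sylow p G) := inferInstance
  have hne : (P : Subgroup G) ≠ ⊥ := P.ne_bot_of_dvd_card hp
  have : Nontrivial (P : Subgroup G) := (Subgroup.nontrivial_iff_ne_bot _).2 hne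
  have := P.isPGroup'.center_nontrivial
  obtain ⟨z, hz⟩ := exists_ne (1 : Subgroup.center (P : Subgroup G))
  refine ⟨z.1.1, P, fun e => hz (Subtype.ext (Subtype.ext e)), z.1.2, fun s hs => mem_cen.2 ?_⟩
  exact congrArg Subtype.val (Subgroup.mem_center_iff.1 z.2 ⟨s, hs⟩)

/-- A non-abelian simple CT group has even order. -/
theorem even_card [Finite G] [IsSimpleGroup G] (hG : ¬ IsMulCommutative G) :
    Even (Nat.card G) := by
  classical
  by_contra heven
  have hodd : Odd (Nat.card G) := Nat.not_even_iff_odd.1 heven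
  have := Fintype.ofFinite G
  let π := (Nat.card G).primeFactors
  have hπ : ∀ p ∈ π, Fact p.Prime := fun p hp => ⟨Nat.prime_of_mem_primeFactors hp⟩
  have hex : ∀ p : π, ∃ z : G, z ≠ 1 ∧ ¬ (p : ℕ) ∣ (cen z).index ∧
      (∀ g : G, (p : ℕ) ∣ Nat.card (cen g) → g ≠ 1 →
        ∃ x : G, ∀ y : G, y ∈ cen g ↔ x * y * x⁻¹ ∈ cen z) ∧
      ∃ P : Sylow p G, z ∈ (P : Subgroup G) ∧ (P : Subgroup G) ≤ cen z := by
    intro p
    have := hπ p p.2
    obtain ⟨z, P, hz1, hzP, hPz⟩ := exists_hall h (p : ℕ) (Nat.dvd_of_mem_primeFactors p.2)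
    refine ⟨z, hz1, fun hd => P.not_dvd_index (hd.trans (Subgroup.index_dvd_of_le hPz)), ?_,
      P, hzP, hPz⟩
    intro g hg hg1
    obtain ⟨k, hk⟩ := exists_prime_orderOf_dvd_card' (G := cen g) (p : ℕ) hg
    rw [← Subgroup.orderOf_coe] at hk
    have hk1 : (k : G) ≠ 1 := fun e => (hπ p p.2).out.one_lt.ne' (by rw [← hk, e, orderOf_one])
    have hpg : IsPGroup (p : ℕ) (Subgroup.zpowers (k : G)) :=
      IsPGroup.of_card (n := 1) (by rw [Nat.card_zpowers, hk, pow_one])
    obtain ⟨Q, hQ⟩ := hpg.exists_le_sylow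
    obtain ⟨x, hx⟩ := MulAction.exists_smul_eq G Q P
    have hxk : x * k * x⁻¹ ∈ cen z := hPz (by
      rw [← hx, Sylow.coe_subgroup_smul]
      exact ⟨k, hQ (Subgroup.mem_zpowers _), rfl⟩)
    have hxk1 : x * k * x⁻¹ ≠ 1 := fun e => hk1 (conj_eq_one_iff.1 e)
    refine ⟨x, fun y => ?_⟩
    have e1 : cen (x * g * x⁻¹) = cen z := eq_of_meet h (fun e => hg1 (conj_eq_one_iff.1 e)) hz1
      (conj_mem_cen.2 k.2) hxk hxk1
    rw [← e1, conj_mem_cen]
  choose z hz1 hzi hzc hzP using hex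
  let q : π → ℕ := fun p => (Nat.card (cen (z p))).minFac
  have hdvd : ∀ p : π, (p : ℕ) ∣ Nat.card (cen (z p)) := by
    intro p
    have := hπ p p.2
    rcases (hπ p p.2).out.dvd_mul.1 ((Subgroup.card_mul_index (cen (z p))).symm ▸
      Nat.dvd_of_mem_primeFactors p.2) with hd | hd
    · exact hd
    · exact absurd hd (hzi p)
  have hcard : ∀ (p : π) (g : G), g ≠ 1 → (p : ℕ) ∣ Nat.card (cen g) →
      Nat.card (cen g) = Nat.card (cen (z p)) := by
    intro p g hg1 hg
    obtain ⟨x, hx⟩ := hzc p g hg hg1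
    exact Nat.card_congr (Equiv.subtypeEquiv (MulAut.conj x).toEquiv hx)
  have hqmem : ∀ p : π, q p ∈ π := by
    intro p
    refine Nat.mem_primeFactors.2 ⟨Nat.minFac_prime ?_,
      (Nat.minFac_dvd _).trans (Subgroup.card_subgroup_dvd_card _), Nat.card_pos.ne'⟩
    intro e
    exact (hπ p p.2).out.not_dvd_one (e ▸ hdvd p)
  let ι := {p : π // q p = (p : ℕ)}
  let H : ι → Subgroup G := fun i => cen (z i.1)
  let L : ι → Subgroup G := fun i => Subgroup.normalizer (H i : Set G)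
  have hrep : ∀ p : π, ∃ i : ι, (i.1 : ℕ) = q p ∧
      ∃ x : G, ∀ y : G, y ∈ cen (z p) ↔ x * y * x⁻¹ ∈ H i := by
    intro p
    have hd : (⟨q p, hqmem p⟩ : π).1 ∣ Nat.card (cen (z p)) := Nat.minFac_dvd _
    refine ⟨⟨⟨q p, hqmem p⟩, ?_⟩, rfl, hzc ⟨q p, hqmem p⟩ _ hd (hz1 p)⟩
    exact congrArg Nat.minFac (hcard ⟨q p, hqmem p⟩ _ (hz1 p) hd).symm
  have hcop : ∀ i j, i ≠ j → Nat.Coprime (Nat.card (H i)) (Nat.card (H j)) := by
    intro i j hij
    by_contra hnc
    obtain ⟨r, hr, hri, hrj⟩ := Nat.Prime.not_coprime_iff_dvd.1 hnc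
    have hrπ : r ∈ π := Nat.mem_primeFactors.2
      ⟨hr, hri.trans (Subgroup.card_subgroup_dvd_card _), Nat.card_pos.ne'⟩
    have e : Nat.card (H i) = Nat.card (H j) :=
      (hcard ⟨r, hrπ⟩ _ (hz1 _) hri).trans (hcard ⟨r, hrπ⟩ _ (hz1 _) hrj).symm
    apply hij
    apply Subtype.ext
    apply Subtype.ext
    rw [← i.2, ← j.2]
    exact congrArg Nat.minFac e
  have hTI : ∀ i, Cfsg.IsTISubset (H i : Set G) := fun i => isTI h (hz1 i.1)
  have hcover : ∀ g : G, g ≠ 1 → ∃ i, ∃ x : G, x * g * x⁻¹ ∈ H i := by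
    intro g hg
    obtain ⟨r, hr, hrd⟩ := Nat.exists_prime_and_dvd (orderOf_eq_one_iff.not.2 hg)
    have hrπ : r ∈ π := Nat.mem_primeFactors.2
      ⟨hr, hrd.trans (orderOf_dvd_natCard g), Nat.card_pos.ne'⟩
    have hd : r ∣ Nat.card (cen g) :=
      hrd.trans ((Subgroup.orderOf_mk g (self_mem g)).symm ▸ orderOf_dvd_natCard _)
    obtain ⟨x, hx⟩ := hzc ⟨r, hrπ⟩ g hd hg
    obtain ⟨i, -, y, hy⟩ := hrep ⟨r, hrπ⟩
    refine ⟨i, y * x, ?_⟩
    have := (hy _).1 ((hx g).1 (self_mem g))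
    simpa [mul_assoc] using this
  have hH1 : ∀ i, H i ≠ ⊥ := fun i hb =>
    hz1 i.1 (Subgroup.mem_bot.1 (hb ▸ self_mem (z i.1)))
  have hHL : ∀ i, H i < L i := by
    intro i
    refine lt_of_le_of_ne Subgroup.le_normalizer fun e => ?_
    have := hπ i.1 i.1.2
    obtain ⟨P, hzP', hPz⟩ := hzP i.1
    have hN : Subgroup.normalizer ((P : Subgroup G) : Set G) ≤
        Subgroup.centralizer ((P : Subgroup G) : Set G) := by
      intro g hg
      have hgH : g ∈ H i := by
        rw [e]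
        exact mem_normalizer_of_meet h (hz1 i.1) (hPz hzP') (hz1 i.1)
          (hPz ((Subgroup.mem_normalizer_iff.1 hg _).1 hzP'))
      exact Subgroup.mem_centralizer_iff.2 fun s hs => comm_of_mem h (hz1 i.1) (hPz hs) hgH
    have hc := MonoidHom.ker_transferSylow_isComplement' P hN
    rcases IsSimpleGroup.eq_bot_or_eq_top_of_normal (MonoidHom.transferSylow P hN).ker
      inferInstance with hb | hb
    · have hP : (P : Subgroup G) = ⊤ := by
        rw [hb, Subgroup.isComplement'_bot_left] at hc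
        exact hc
      apply hG
      refine ⟨⟨fun a b => comm_of_mem h (hz1 i.1) (hPz ?_) (hPz ?_)⟩⟩ <;> simp [hP]
    · rw [hb, Subgroup.isComplement'_top_left] at hc
      exact hz1 i.1 (Subgroup.mem_bot.1 (hc ▸ hzP'))
  have hι : 2 ≤ Fintype.card ι := by
    by_contra hlt
    have h1527 := Cfsg.Agent.S1527.result H hcop hTI hcover
    have hG1 : 1 < Nat.card G := Finite.one_lt_card
    obtain ⟨p0, hp0⟩ := Nat.exists_prime_and_dvd hG1.ne'
    obtain ⟨i0, -⟩ := hrep ⟨p0, Nat.mem_primeFactors.2 ⟨hp0.1, hp0.2, by omega⟩⟩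
    have : Subsingleton ι := Fintype.card_le_one_iff_subsingleton.1 (by omega)
    rw [Fintype.sum_subsingleton _ i0] at h1527
    have h2 : 2 * Nat.card (H i0) ≤ Nat.card (Subgroup.normalizer (H i0 : Set G)) := by
      have hd := Subgroup.card_dvd_of_le (hHL i0).le
      obtain ⟨c, hc⟩ := hd
      have hc1 : c ≠ 1 := by
        rintro rfl
        rw [mul_one] at hc
        exact (hHL i0).ne (Subgroup.eq_of_le_of_card_ge (hHL i0).le hc.le)
      have hc0 : c ≠ 0 := by
        rintro rfl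
        rw [mul_zero] at hc
        exact Nat.card_pos.ne' hc
      rw [hc, mul_comm 2]
      exact Nat.mul_le_mul_left _ (by omega)
    have h3 := index_normalizer_mul (H i0)
    have hhpos : 1 ≤ Nat.card (H i0) := Nat.card_pos
    generalize (Subgroup.normalizer (H i0 : Set G)).index = a at h1527 h3
    generalize Nat.card (Subgroup.normalizer (H i0 : Set G)) = b at h2 h3
    generalize Nat.card (H i0) = c at h1527 h2 hhpos
    rw [Nat.mul_sub, mul_one] at h1527
    have h4 : a * (2 * c) ≤ a * b := Nat.mul_le_mul_left a h2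
    have h5 : a ≤ a * c := Nat.le_mul_of_pos_right a hhpos
    have h6 : 1 ≤ a := Nat.one_le_iff_ne_zero.2 (by rintro rfl; simp at h3; omega)
    rw [← mul_assoc, mul_comm a 2, mul_assoc] at h4
    omega
  refine Cfsg.Agent.S1526.result hodd hι L H hHL hH1
    (fun i x hx k hk => (Subgroup.mem_normalizer_iff.1 hx k).1 hk) ?_ hcop
    (fun i => ⟨hTI i, rfl⟩) hcover
  intro i k hk hk1
  refine inf_le_right.trans ?_
  show cen k ≤ H i
  rw [cen_eq h (hz1 i.1) hk hk1]

end Cfsg.Agent.Lib.CASimple67
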