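import Cfsg.Agent.Lib.CASimple67.Local

/-!
# CT simple groups: the degree

Counting pairs of involutions shows `|G : N| = |cen z| + 1` (`Good.degree`), and a non-identity
element of a two point stabiliser fixes no third point (`Good.fix_two`).
-/

set_option autoImplicit false

namespace Cfsg.Agent.Lib.CASimple67

open Cfsg.Agent.Lib.Involutions.Basic Cfsg.Agent.Lib.Involutions.StronglyEmbedded
open Cfsg.Agent.Lib.Fusion.Swappers

variable {G : Type*} [Group G] [Finite G] {z : G}

namespace Good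

variable (g0 : Good z)
include g0

theorem odd_cen {g : G} (hg : g * g ≠ 1) : ∀ v ∈ cen g, orderOf v ≠ 2 := fun _ hv hvo =>
  hg (g0.sq_of_commute hvo (mem_cen.2 (mem_cen.1 hv).symm))

omit [Finite G] in
theorem ne_one_of_sq {g : G} (hg : g * g ≠ 1) : g ≠ 1 := fun e => hg (by rw [e, one_mul])

theorem inverts_all {g v : G} (hg : g * g ≠ 1) (hv : orderOf v = 2)
    (hvn : v ∈ Subgroup.normalizer (cen g : Set G)) : ∀ k ∈ cen g, v * k * v⁻¹ = k⁻¹ := by
  have hg1 := g0.ne_one_of_sq hg
  have hvi := invol_inv hv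
  have hmem : ∀ k ∈ cen g, v * k * v⁻¹ ∈ cen g :=
    fun k hk => conj_mem_of_normalizes g0.ct hg1 hvn hk
  let f : cen g → cen g := fun k => ⟨(k : G)⁻¹ * (v * k * v⁻¹), mul_mem (inv_mem k.2) (hmem k k.2)⟩
  have hf : Function.Injective f := by
    intro a b hab
    have e1 : (a : G)⁻¹ * (v * a * v⁻¹) = (b : G)⁻¹ * (v * b * v⁻¹) := congrArg Subtype.val hab
    by_contra hne
    set k : G := (b : G) * (a : G)⁻¹ with hk
    have hk1 : k ≠ 1 := fun e => hne (Subtype.ext (mul_inv_eq_one.1 e).symm)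
    have hkc : k ∈ cen g := mul_mem b.2 (inv_mem a.2)
    have hvk : v ∈ cen k := mem_cen.2 (by
      have h2 : k * (v * (a : G) * v⁻¹) = v * b * v⁻¹ := by
        rw [hk]
        calc (b : G) * (a : G)⁻¹ * (v * a * v⁻¹) = b * ((a : G)⁻¹ * (v * a * v⁻¹)) := by group
          _ = v * b * v⁻¹ := by rw [e1]; group
      calc v * k = (v * b * v⁻¹) * (v * (a : G) * v⁻¹)⁻¹ * v := by rw [hk]; group
        _ = k * v := by rw [← h2]; group)
    rw [cen_eq g0.ct hg1 hkc hk1] at hvk
    exact g0.odd_cen hg v hvk hv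
  intro k hk
  obtain ⟨j, hj⟩ := (Finite.injective_iff_surjective.1 hf) ⟨k, hk⟩
  have hj' : (j : G)⁻¹ * (v * j * v⁻¹) = k := congrArg Subtype.val hj
  rw [← hj', hvi]
  have hvv := invol_mul_self hv
  calc v * ((j : G)⁻¹ * (v * j * v)) * v = v * (j : G)⁻¹ * v * (j * (v * v)) := by
        simp only [mul_assoc]
    _ = ((j : G)⁻¹ * (v * j * v))⁻¹ := by
        rw [hvv, mul_one, mul_inv_rev, inv_inv, mul_inv_rev, mul_inv_rev, hvi]
        simp only [mul_assoc]

theorem mem_normalizer_of_inverts {g u : G} (hg : g * g ≠ 1) (hinv : u * g * u⁻¹ = g⁻¹) :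
    u ∈ Subgroup.normalizer (cen g : Set G) :=
  mem_normalizer_of_meet g0.ct (g0.ne_one_of_sq hg) (self_mem g) (g0.ne_one_of_sq hg)
    (hinv ▸ inv_mem (self_mem g))

theorem normalizer_cases {g u y : G} (hg : g * g ≠ 1) (hu : orderOf u = 2)
    (hinv : u * g * u⁻¹ = g⁻¹) (hy : y ∈ Subgroup.normalizer (cen g : Set G)) :
    y ∈ cen g ∨ u * y ∈ cen g := by
  classical
  have hg1 := g0.ne_one_of_sq hg
  have hun := g0.mem_normalizer_of_inverts hg hinv
  have hui := invol_inv hu
  have huu := invol_mul_self hu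
  have hyu : orderOf (y * u * y⁻¹) = 2 := (orderOf_conj_eq y u).trans hu
  have hyn : y * u * y⁻¹ ∈ Subgroup.normalizer (cen g : Set G) :=
    mul_mem (mul_mem hy hun) (inv_mem hy)
  have hh : u * (y * u * y⁻¹) ∈ cen g := by
    refine mem_cen.2 (mul_inv_eq_iff_eq_mul.1 ?_)
    calc u * (y * u * y⁻¹) * g * (u * (y * u * y⁻¹))⁻¹
        = u * ((y * u * y⁻¹) * g * (y * u * y⁻¹)⁻¹) * u⁻¹ := by group
      _ = g := by
          rw [g0.inverts_all hg hyu hyn g (self_mem g),
            g0.inverts_all hg hu hun _ (inv_mem (self_mem g)), inv_inv]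
  have hodd : (Nat.card (cen g)).Coprime 2 := by
    rw [Nat.coprime_two_right]
    exact (odd_card_iff_no_invol _).2 (g0.odd_cen hg)
  obtain ⟨k, hk⟩ := (powCoprime hodd).surjective ⟨_, hh⟩
  have hk' : (k : G) * k = u * (y * u * y⁻¹) := by
    have := congrArg Subtype.val hk
    simpa [powCoprime, pow_two] using this
  have hku : u * (k : G) * u⁻¹ = (k : G)⁻¹ := g0.inverts_all hg hu hun k k.2
  have hky : (k : G) * y ∈ cen u := mem_cen.2 (by
    have h1 : y * u * y⁻¹ = u * ((k : G) * k) := by rw [hk', ← mul_assoc, huu, one_mul]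
    calc (k : G) * y * u = k * (y * u * y⁻¹) * y := by group
      _ = k * u * (k * k) * y := by rw [h1]; group
      _ = u * (u * k * u⁻¹) * (k * k) * y := by
          rw [hui]; simp only [← mul_assoc, huu, one_mul]
      _ = u * (k * y) := by rw [hku]; group)
  have hsq := g0.sq_of_commute hu hky
  by_cases h1 : (k : G) * y = 1
  · left
    rw [eq_inv_of_mul_eq_one_right h1]
    exact inv_mem k.2
  · right
    have hw : orderOf ((k : G) * y) = 2 := invol_iff.2 ⟨hsq, h1⟩
    have hwn : (k : G) * y ∈ Subgroup.normalizer (cen g : Set G) :=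
      mul_mem (Subgroup.le_normalizer k.2) hy
    have hwu : u * ((k : G) * y) ∈ cen g := by
      refine mem_cen.2 (mul_inv_eq_iff_eq_mul.1 ?_)
      calc u * ((k : G) * y) * g * (u * ((k : G) * y))⁻¹
          = u * (((k : G) * y) * g * ((k : G) * y)⁻¹) * u⁻¹ := by group
        _ = g := by
            rw [g0.inverts_all hg hw hwn g (self_mem g),
              g0.inverts_all hg hu hun _ (inv_mem (self_mem g)), inv_inv]
    have hsq2 : u * ((k : G) * y) * (u * ((k : G) * y)) = 1 := by
      calc u * ((k : G) * y) * (u * ((k : G) * y)) = u * (((k : G) * y) * u) * ((k : G) * y) := by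
            group
        _ = (u * u) * (((k : G) * y) * ((k : G) * y)) := by rw [mem_cen.1 hky]; group
        _ = 1 := by rw [huu, hsq, one_mul]
    have he : u * ((k : G) * y) = 1 := by
      by_contra hne
      exact g0.odd_cen hg _ hwu (invol_iff.2 ⟨hsq2, hne⟩)
    have hy2 : (k : G) * y = u := by rw [eq_inv_of_mul_eq_one_right he, hui]
    have hy3 : y = (k : G)⁻¹ * u := by rw [← hy2]; group
    rw [hy3, show u * ((k : G)⁻¹ * u) = u * (k : G)⁻¹ * u⁻¹ by rw [hui, mul_assoc]]
    exact conj_mem_of_normalizes g0.ct hg1 hun (inv_mem k.2)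

theorem index_cen {g u : G} (hg : g * g ≠ 1) (hu : orderOf u = 2) (hinv : u * g * u⁻¹ = g⁻¹) :
    ((cen g).subgroupOf (Subgroup.normalizer (cen g : Set G))).index = 2 := by
  have hun := g0.mem_normalizer_of_inverts hg hinv
  have hu' : u ∉ cen g := fun e => g0.odd_cen hg u e hu
  rw [Subgroup.index_eq_two_iff]
  refine ⟨⟨u, hun⟩, fun b => ?_⟩
  simp only [Subgroup.mem_subgroupOf, Subgroup.coe_mul]
  rcases g0.normalizer_cases hg hu hinv b.2 with hb | hb
  · refine Or.inr ⟨hb, fun e => hu' ?_⟩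
    simpa using mul_mem (inv_mem hb) e
  · refine Or.inl ⟨?_, fun e => hu' ?_⟩
    · have := conj_mem_of_normalizes g0.ct (g0.ne_one_of_sq hg) hun hb
      rwa [invol_inv hu, show u * (u * (b : G)) * u = u * u * ((b : G) * u) by group,
        invol_mul_self hu, one_mul] at this
    · simpa using mul_mem hb (inv_mem e)

theorem card_normalizer {g u : G} (hg : g * g ≠ 1) (hu : orderOf u = 2)
    (hinv : u * g * u⁻¹ = g⁻¹) :
    Nat.card (Subgroup.normalizer (cen g : Set G)) = 2 * Nat.card (cen g) := by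
  rw [← ((cen g).subgroupOf _).card_mul_index, g0.index_cen hg hu hinv,
    Nat.card_congr (Subgroup.subgroupOfEquivOfLe Subgroup.le_normalizer).toEquiv, mul_comm]

end Good

/-- The non-identity elements of the conjugates of `cen g`. -/
def Conjs (g : G) : Set G := {y | y ≠ 1 ∧ ∃ x : G, x * y * x⁻¹ ∈ cen g}

/-- The elements with an inverting involution and square different from one. -/
def Rset (G : Type*) [Group G] : Set G :=
  {g | g * g ≠ 1 ∧ ∃ u : G, orderOf u = 2 ∧ u * g * u⁻¹ = g⁻¹}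

namespace Good

variable (g0 : Good z)
include g0

theorem card_conjs {g u : G} (hg : g * g ≠ 1) (hu : orderOf u = 2)
    (hinv : u * g * u⁻¹ = g⁻¹) :
    2 * Nat.card (cen g) * (Conjs g).ncard = Nat.card G * (Nat.card (cen g) - 1) := by
  classical
  set H := cen g
  set N := Subgroup.normalizer (H : Set G)
  have hg1 := g0.ne_one_of_sq hg
  let f : (G ⧸ N) × {k : H // k ≠ 1} → Conjs g := fun p =>
    ⟨p.1.out * (p.2.1 : G) * p.1.out⁻¹, fun e => p.2.2 (Subtype.ext (conj_eq_one_iff.1 e)),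
      p.1.out⁻¹, by simp [mul_assoc, H]⟩
  have hf : Function.Bijective f := by
    constructor
    · rintro ⟨x, k, hk⟩ ⟨x', k', hk'⟩ he
      have he' : x.out * (k : G) * x.out⁻¹ = x'.out * (k' : G) * x'.out⁻¹ :=
        congrArg Subtype.val he
      have hn : x'.out⁻¹ * x.out ∈ N := by
        refine mem_normalizer_of_meet g0.ct hg1 k.2 (fun e => hk (Subtype.ext e)) ?_
        rw [show x'.out⁻¹ * x.out * (k : G) * (x'.out⁻¹ * x.out)⁻¹
          = x'.out⁻¹ * (x.out * (k : G) * x.out⁻¹) * x'.out by group, he']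
        simp [mul_assoc, H]
      have hx : x = x' := by
        rw [← QuotientGroup.out_eq' x, ← QuotientGroup.out_eq' x']
        exact (QuotientGroup.eq.2 hn).symm
      subst hx
      simp only [mul_left_inj, mul_right_inj] at he'
      exact Prod.ext rfl (Subtype.ext (Subtype.ext he'))
    · rintro ⟨y, hy1, x, hx⟩
      obtain ⟨m, hm⟩ := QuotientGroup.mk_out_eq_mul N x⁻¹
      have hk : (m : G)⁻¹ * (x * y * x⁻¹) * (m : G) ∈ H := by
        have := conj_mem_of_normalizes g0.ct hg1 (inv_mem m.2) hx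
        simpa using this
      refine ⟨⟨QuotientGroup.mk x⁻¹, ⟨_, hk⟩, fun e => hy1 ?_⟩, Subtype.ext ?_⟩
      · have h1 := congrArg Subtype.val e
        simp only [Subgroup.coe_one] at h1
        have := congrArg (fun t => x⁻¹ * ((m : G) * t * (m : G)⁻¹) * x) h1
        simpa [mul_assoc] using this
      · show (QuotientGroup.mk (s := N) x⁻¹).out * ((m : G)⁻¹ * (x * y * x⁻¹) * m) * _⁻¹ = y
        rw [hm]
        group
  have hcard : (Conjs g).ncard = N.index * (Nat.card H - 1) := by
    rw [← Nat.card_coe_set_eq, ← Nat.card_eq_of_bijective f hf, Nat.card_prod,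
      Subgroup.index_eq_card]
    congr 1
    have := Fintype.ofFinite H
    rw [Nat.card_eq_fintype_card, Nat.card_eq_fintype_card, Fintype.card_subtype_compl]
    simp
  rw [hcard, ← N.card_mul_index, g0.card_normalizer hg hu hinv]
  ring

omit [Finite G] in
theorem conjs_meet {g g' y : G} (hg : g ≠ 1) (hg' : g' ≠ 1) (h1 : y ∈ Conjs g)
    (h2 : y ∈ Conjs g') : g' ∈ Conjs g := by
  obtain ⟨hy, x, hx⟩ := h1
  obtain ⟨-, x', hx'⟩ := h2
  refine ⟨hg', x * x'⁻¹, ?_⟩
  have hy' : x * y * x⁻¹ ≠ 1 := fun e => hy (conj_eq_one_iff.1 e)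
  rw [← cen_eq g0.ct hg hx hy']
  have h3 : g' ∈ cen (x' * y * x'⁻¹) := by
    rw [cen_eq g0.ct hg' hx' (fun e => hy (conj_eq_one_iff.1 e))]; exact self_mem g'
  rw [mem_cen_conj] at h3
  have := (conj_mem_cen (g := x)).2 h3
  simpa [mul_assoc] using this

theorem conjs_sub {g u : G} (hg : g * g ≠ 1) (hu : orderOf u = 2)
    (hinv : u * g * u⁻¹ = g⁻¹) : Conjs g ⊆ Rset G := by
  rintro y ⟨hy, x, hx⟩
  refine ⟨fun e => ?_, x⁻¹ * u * x, ?_, ?_⟩
  · refine g0.odd_cen hg _ hx (invol_iff.2 ⟨?_, fun e1 => hy (conj_eq_one_iff.1 e1)⟩)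
    calc x * y * x⁻¹ * (x * y * x⁻¹) = x * (y * y) * x⁻¹ := by group
      _ = 1 := by rw [e, mul_one, mul_inv_cancel]
  · have := orderOf_conj_eq x⁻¹ u
    rw [inv_inv] at this
    exact this.trans hu
  · have h1 := g0.inverts_all hg hu (g0.mem_normalizer_of_inverts hg hinv) _ hx
    calc x⁻¹ * u * x * y * (x⁻¹ * u * x)⁻¹ = x⁻¹ * (u * (x * y * x⁻¹) * u⁻¹) * x := by group
      _ = y⁻¹ := by rw [h1]; group

theorem card_cen_of_mem {g y : G} (hg : g * g ≠ 1) (hy : y ∈ Conjs g) :
    Nat.card (cen y) = Nat.card (cen g) := by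
  obtain ⟨hy1, x, hx⟩ := hy
  rw [← cen_eq g0.ct (g0.ne_one_of_sq hg) hx (fun e => hy1 (conj_eq_one_iff.1 e))]
  exact Nat.card_congr (Equiv.subtypeEquiv (MulAut.conj x).toEquiv fun w => conj_mem_cen.symm)

theorem pairs_real {g u : G} (hg : g * g ≠ 1) (hu : orderOf u = 2)
    (hinv : u * g * u⁻¹ = g⁻¹) : Nat.card (Pairs g) = Nat.card (cen g) := by
  have hreal : IsConj g g⁻¹ := isConj_iff.2 ⟨u, hinv⟩
  rw [Nat.card_congr (pairsEquiv g), ← card_inverters hreal]
  refine Nat.card_congr (Equiv.subtypeEquivRight fun t => ⟨fun h => h.2.1, fun h => ⟨?_, h, ?_⟩⟩)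
  · have htn := g0.mem_normalizer_of_inverts hg h
    have hk : u * t ∈ cen g := by
      refine mem_cen.2 (mul_inv_eq_iff_eq_mul.1 ?_)
      calc u * t * g * (u * t)⁻¹ = u * (t * g * t⁻¹) * u⁻¹ := by group
        _ = (u * g * u⁻¹)⁻¹ := by rw [h]; group
        _ = g := by rw [hinv, inv_inv]
    have h1 := g0.inverts_all hg hu (g0.mem_normalizer_of_inverts hg hinv) _ hk
    rw [invol_inv hu] at h1
    refine invol_iff.2 ⟨?_, fun e => ?_⟩
    · rw [← mul_assoc u u, invol_mul_self hu, one_mul] at h1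
      calc t * t = t * u * (u * t) := by
            rw [mul_assoc, ← mul_assoc u u, invol_mul_self hu, one_mul]
        _ = 1 := by rw [h1, inv_mul_cancel]
    · rw [e, one_mul, inv_one, mul_one] at h
      exact hg (by nth_rw 2 [h]; rw [mul_inv_cancel])
  · intro e
    rw [eq_inv_of_mul_eq_one_left e] at h
    simp only [inv_inv, inv_mul_cancel, one_mul] at h
    exact hg (by nth_rw 2 [h]; rw [mul_inv_cancel])

theorem card_invols : Nat.card {i : G // orderOf i = 2} = (nrm' z).index * idx z := by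
  rw [card_invol g0.emb, g0.card_inv, Subgroup.index_eq_card]

theorem pairs_invol {x : G} (hx : orderOf x = 2) : Nat.card (Pairs x) + 1 = idx z := by
  classical
  have := Fintype.ofFinite G
  have hcard : Nat.card (cen x) = idx z + 1 := by
    obtain ⟨g, hg⟩ := isConj_iff.1 (g0.isConj_invol hx)
    rw [← g0.card_cen, ← hg]
    exact (Nat.card_congr (Equiv.subtypeEquiv (MulAut.conj g).toEquiv fun w => conj_mem_cen.symm)).symm
  rw [Nat.card_congr (pairsEquiv x), Nat.card_eq_fintype_card, Fintype.card_subtype]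
  rw [Nat.card_eq_fintype_card, Fintype.card_subtype] at hcard
  have h1 : (Finset.univ.filter fun w : G => w ∈ cen x) =
      insert 1 (insert x (Finset.univ.filter fun t : G =>
        orderOf t = 2 ∧ t * x * t⁻¹ = x⁻¹ ∧ t * x ≠ 1)) := by
    ext w
    simp only [Finset.mem_filter, Finset.mem_univ, true_and, Finset.mem_insert]
    constructor
    · intro hw
      by_cases hw1 : w = 1
      · exact Or.inl hw1
      by_cases hwx : w = x
      · exact Or.inr (Or.inl hwx)
      refine Or.inr (Or.inr ⟨invol_iff.2 ⟨g0.sq_of_commute hx hw, hw1⟩, ?_, fun e => hwx ?_⟩)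
      · rw [invol_inv hx, mul_inv_eq_iff_eq_mul]; exact mem_cen.1 hw
      · rw [eq_inv_of_mul_eq_one_left e, invol_inv hx]
    · rintro (rfl | rfl | ⟨-, h2, -⟩)
      · exact one_mem _
      · exact self_mem w
      · rw [invol_inv hx, mul_inv_eq_iff_eq_mul] at h2
        exact mem_cen.2 h2
  rw [h1, Finset.card_insert_of_notMem (by
      simp only [Finset.mem_insert, Finset.mem_filter, Finset.mem_univ, true_and, orderOf_one]
      rintro (e | ⟨e, -⟩)
      · exact invol_ne_one hx e.symm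
      · norm_num at e),
    Finset.card_insert_of_notMem (by
      simp only [Finset.mem_filter, Finset.mem_univ, true_and]
      exact fun h => h.2.2 (invol_mul_self hx))] at hcard
  omega

open scoped Classical in
theorem sum_rset [Fintype G] :
    ∑ g ∈ Finset.univ.filter (· ∈ Rset G), Nat.card (cen g) +
      (nrm' z).index * idx z * idx z =
      (nrm' z).index * idx z * ((nrm' z).index * idx z) := by
  rw [← g0.card_invols]
  set I := Nat.card {i : G // orderOf i = 2}
  have htot : ∑ g : G, Nat.card (Pairs g) = I * I := by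
    rw [← Nat.card_sigma, ← Nat.card_prod]
    exact Nat.card_congr
      { toFun := fun p => (⟨p.2.1.1, p.2.2.1⟩, ⟨p.2.1.2, p.2.2.2.1⟩)
        invFun := fun q => ⟨q.1.1 * q.2.1, ⟨(q.1.1, q.2.1), q.1.2, q.2.2, rfl⟩⟩
        left_inv := by
          rintro ⟨g, ⟨a, b⟩, h1, h2, h3⟩
          subst h3
          rfl
        right_inv := fun q => rfl }
  have hR : ∑ g : G, Nat.card (Pairs g) =
      ∑ g ∈ Finset.univ.filter (· ∈ Rset G), Nat.card (cen g) +
        ∑ g ∈ Finset.univ.filter (fun g : G => orderOf g = 2), Nat.card (Pairs g) +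
          Nat.card (Pairs (1 : G)) := by
    rw [← Finset.sum_filter_add_sum_filter_not Finset.univ (fun g : G => g * g = 1), add_comm,
      add_assoc]
    congr 1
    · rw [← Finset.sum_filter_add_sum_filter_not (Finset.univ.filter fun g : G => ¬ g * g = 1)
        (· ∈ Rset G), Finset.filter_filter, Finset.filter_filter]
      rw [Finset.sum_eq_zero (s := Finset.univ.filter fun g : G => ¬ g * g = 1 ∧ g ∉ Rset G), add_zero]
      · refine Finset.sum_congr ?_ fun g hg => ?_
        · ext g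
          simp only [Finset.mem_filter, Finset.mem_univ, true_and]
          exact ⟨fun h => h.2, fun h => ⟨h.1, h⟩⟩
        · obtain ⟨h1, u, hu, hinv⟩ := (Finset.mem_filter.1 hg).2
          exact g0.pairs_real h1 hu hinv
      · intro g hg
        obtain ⟨h1, h2⟩ := (Finset.mem_filter.1 hg).2
        have : IsEmpty (Pairs g) :=
          ⟨fun p => h2 ⟨h1, _, (pairsEquiv g p).2.1, (pairsEquiv g p).2.2.1⟩⟩
        simp
    · have h1 : (Finset.univ.filter fun g : G => g * g = 1) =
          insert 1 (Finset.univ.filter fun g : G => orderOf g = 2) := by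
        ext g
        simp only [Finset.mem_filter, Finset.mem_univ, true_and, Finset.mem_insert]
        constructor
        · intro h
          by_cases hg : g = 1
          · exact Or.inl hg
          · exact Or.inr (invol_iff.2 ⟨h, hg⟩)
        · rintro (rfl | h)
          · exact one_mul 1
          · exact invol_mul_self h
      rw [h1, Finset.sum_insert (by simp [orderOf_one]), add_comm]
  have hinv : ∑ g ∈ Finset.univ.filter (fun g : G => orderOf g = 2), Nat.card (Pairs g) + I =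
      I * idx z := by
    have hI : I = (Finset.univ.filter fun g : G => orderOf g = 2).card := by
      rw [← Fintype.card_subtype, ← Nat.card_eq_fintype_card]
    rw [hI, Finset.card_eq_sum_ones, ← Finset.sum_add_distrib, Finset.sum_mul, one_mul]
    exact Finset.sum_congr rfl fun g hg => g0.pairs_invol (Finset.mem_filter.1 hg).2
  have hone : Nat.card (Pairs (1 : G)) = I := Nat.card_congr
    { toFun := fun p => ⟨p.1.1, p.2.1⟩
      invFun := fun t => ⟨(t.1, t.1), t.2, t.2, invol_mul_self t.2⟩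
      left_inv := by
        rintro ⟨⟨a, b⟩, h1, h2, h3⟩
        refine Subtype.ext (Prod.ext rfl ?_)
        show a = b
        have h4 : a = b⁻¹ := eq_inv_of_mul_eq_one_left h3
        rw [h4, invol_inv h2]
      right_inv := fun t => rfl }
  rw [hone] at hR
  omega

/-! ### The points fixed by an element of a two point stabiliser -/

omit [Finite G] in
theorem mem_two_iff_fix {w d : G} (hd : d ∈ nrm' z) :
    d • ((w : G) : G ⧸ nrm' z) = ((w : G) : G ⧸ nrm' z) ↔ d ∈ two z w := by
  rw [smul_coset_eq_iff, mem_two]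
  exact ⟨fun h => ⟨hd, h⟩, fun h => h.2⟩

theorem exists_swapper {y : G ⧸ nrm' z} (hy : y ≠ ((1 : G) : G ⧸ nrm' z)) :
    ∃ w : G, orderOf w = 2 ∧ w ∉ nrm' z ∧ ((w : G) : G ⧸ nrm' z) = y := by
  have h1 := card_inv_le_card_sw g0.emb hy
  have h2 := g0.card_inv
  have h3 := g0.three_le
  obtain ⟨⟨w, hw, hwy⟩⟩ : Nonempty (Sw (nrm' z) y) := (Nat.card_pos_iff.1 (by omega)).1
  rw [smul_one_coset] at hwy
  exact ⟨w, hw, fun e => hy (by rw [← hwy]; exact mk_eq_one_iff.2 e), hwy⟩

theorem sq_ne_one {u d : G} (hu : orderOf u = 2) (huN : u ∉ nrm' z) (hd : d ∈ two z u)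
    (hd1 : d ≠ 1) : d * d ≠ 1 := by
  intro e
  have h := orderOf_dvd_natCard (⟨d, hd⟩ : two z u)
  rw [Subgroup.orderOf_mk, invol_iff.2 ⟨e, hd1⟩, g0.card_two hu huN] at h
  exact Nat.not_even_iff_odd.2 g0.odd (even_iff_two_dvd.2 h)

theorem cen_inf {u d : G} (hu : orderOf u = 2) (huN : u ∉ nrm' z) (hd : d ∈ two z u)
    (hd1 : d ≠ 1) : cen d ⊓ nrm' z = two z u := by
  have hg := g0.sq_ne_one hu huN hd hd1
  have hinv := g0.inverted hu huN hd
  refine le_antisymm (fun k hk => ?_) (fun k hk => ⟨?_, (mem_two.1 hk).1⟩)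
  · refine mem_two.2 ⟨hk.2, ?_⟩
    have h1 := g0.inverts_all hg hu (g0.mem_normalizer_of_inverts hg hinv) k hk.1
    rw [invol_inv hu] at h1 ⊢
    rw [h1]
    exact inv_mem hk.2
  · have h1 := g0.inverted hu huN (mul_mem hk hd)
    rw [show u * (k * d) * u⁻¹ = (u * k * u⁻¹) * (u * d * u⁻¹) by group, g0.inverted hu huN hk,
      hinv, mul_inv_rev] at h1
    refine mem_cen.2 ?_
    have := congrArg (·⁻¹) h1
    simp only [mul_inv_rev, inv_inv] at this
    exact this.symm

theorem normalizer_inf {u d : G} (hu : orderOf u = 2) (huN : u ∉ nrm' z) (hd : d ∈ two z u)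
    (hd1 : d ≠ 1) : Subgroup.normalizer (cen d : Set G) ⊓ nrm' z = two z u := by
  have hg := g0.sq_ne_one hu huN hd hd1
  have hinv := g0.inverted hu huN hd
  refine le_antisymm (fun y hy => ?_) ((g0.cen_inf hu huN hd hd1).symm.le.trans
    (inf_le_inf_right _ Subgroup.le_normalizer))
  rcases g0.normalizer_cases hg hu hinv hy.1 with hc | hc
  · exact (g0.cen_inf hu huN hd hd1).le ⟨hc, hy.2⟩
  exfalso
  have hun := g0.mem_normalizer_of_inverts hg hinv
  have hy' : y = u * (u * y) := by rw [← mul_assoc, invol_mul_self hu, one_mul]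
  have hcd : u * y * d * (u * y)⁻¹ = d := by
    rw [mem_cen.1 hc]; group
  have hyd : y * d * y⁻¹ = d⁻¹ := by
    calc y * d * y⁻¹ = u * (u * y * d * (u * y)⁻¹) * u⁻¹ := by
          rw [invol_inv hu]
          simp [mul_assoc, invol_mul_self hu, invol_inv hu]
          simp [← mul_assoc, invol_mul_self hu]
      _ = d⁻¹ := by rw [hcd, hinv]
  have hy2 : y * y = 1 := by
    have h1 := g0.inverts_all hg hu hun _ hc
    rw [invol_inv hu, ← mul_assoc, invol_mul_self hu, one_mul] at h1
    calc y * y = y * u * (u * y) := by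
          rw [mul_assoc, ← mul_assoc u u, invol_mul_self hu, one_mul]
      _ = 1 := by rw [h1, inv_mul_cancel]
  have hy1 : y ≠ 1 := by
    rintro rfl
    rw [mul_one] at hc
    exact g0.odd_cen hg u hc hu
  have hyA : y ∈ cen z := g0.mem y hy.2 (invol_iff.2 ⟨hy2, hy1⟩)
  have hdd : d⁻¹ * d⁻¹ ∈ cen z := by
    have h1 := conj_mem_of_normalizes g0.ct g0.ne_one (inv_mem (mem_two.1 hd).1) hyA
    have h2 : y * ((d⁻¹) * y * (d⁻¹)⁻¹)⁻¹ ∈ cen z := mul_mem hyA (inv_mem h1)
    rw [show y * ((d⁻¹) * y * (d⁻¹)⁻¹)⁻¹ = (y * d⁻¹ * y⁻¹) * d by group,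
      show y * d⁻¹ * y⁻¹ = (y * d * y⁻¹)⁻¹ by group, hyd, inv_inv] at h2
    rw [← mul_inv_rev]
    exact inv_mem h2
  have := g0.two_inter hu huN hdd (mem_two.1 (mul_mem (inv_mem hd) (inv_mem hd))).2
  rw [← mul_inv_rev, inv_eq_one] at this
  exact hg this

theorem fix_sub {u d d' : G} (hu : orderOf u = 2) (huN : u ∉ nrm' z) (hd : d ∈ two z u)
    (hd1 : d ≠ 1) (hd' : d' ∈ two z u) {y : G ⧸ nrm' z} (hy : d • y = y) : d' • y = y := by
  by_cases h1 : y = ((1 : G) : G ⧸ nrm' z)
  · rw [h1, smul_one_coset]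
    exact mk_eq_one_iff.2 (mem_two.1 hd').1
  obtain ⟨w, hw, hwN, rfl⟩ := g0.exists_swapper h1
  have hdw : d ∈ two z w := (g0.mem_two_iff_fix (mem_two.1 hd).1).1 hy
  have he : two z w = two z u := by
    rw [← g0.cen_inf hu huN hd hd1, ← g0.cen_inf hw hwN hdw hd1]
  exact (g0.mem_two_iff_fix (mem_two.1 hd').1).2 (he ▸ hd')

theorem conj_inter {u d a : G} (hu : orderOf u = 2) (huN : u ∉ nrm' z) (hd : d ∈ two z u)
    (hd1 : d ≠ 1) (ha : a ∈ cen z) (hconj : a * d * a⁻¹ ∈ cen d) : a = 1 := by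
  have hn : a ∈ Subgroup.normalizer (cen d : Set G) :=
    mem_normalizer_of_meet g0.ct hd1 (self_mem d) hd1 hconj
  have := (g0.normalizer_inf hu huN hd hd1).le ⟨hn, Subgroup.le_normalizer ha⟩
  exact g0.two_inter hu huN ha (mem_two.1 this).2

theorem exists_conj_two {u x : G} (hu : orderOf u = 2) (huN : u ∉ nrm' z) (hx : x ∈ nrm' z)
    (hxA : x ∉ cen z) : ∃ a ∈ cen z, ∃ d ∈ two z u, d ≠ 1 ∧ x = a * d * a⁻¹ := by
  classical
  have := Fintype.ofFinite G
  let f : ↥(cen z) × {d : two z u // d ≠ 1} → {x : G // x ∈ nrm' z ∧ x ∉ cen z} :=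
    fun p => ⟨p.1 * (p.2.1 : G) * (p.1 : G)⁻¹,
      mul_mem (mul_mem (Subgroup.le_normalizer p.1.2) (mem_two.1 p.2.1.2).1)
        (inv_mem (Subgroup.le_normalizer p.1.2)),
      fun e => p.2.2 (Subtype.ext (g0.two_inter hu huN
        (by simpa [mul_assoc] using mul_mem (mul_mem (inv_mem p.1.2) e) p.1.2)
        (mem_two.1 p.2.1.2).2))⟩
  have hf : Function.Injective f := by
    rintro ⟨a, d, hd⟩ ⟨a', d', hd'⟩ he
    have he' : (a : G) * d * (a : G)⁻¹ = a' * d' * (a' : G)⁻¹ := congrArg Subtype.val he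
    have hd1 : (d : G) ≠ 1 := fun e => hd (Subtype.ext e)
    have h2 : ((a' : G)⁻¹ * a) * d * ((a' : G)⁻¹ * a)⁻¹ = d' := by
      rw [show ((a' : G)⁻¹ * a) * d * ((a' : G)⁻¹ * a)⁻¹
        = (a' : G)⁻¹ * ((a : G) * d * (a : G)⁻¹) * a' by group, he']
      group
    have hd'c : (d' : G) ∈ cen (d : G) := ((g0.cen_inf hu huN d.2 hd1).symm.le d'.2).1
    have hk := g0.conj_inter hu huN d.2 hd1 (mul_mem (inv_mem a'.2) a.2) (by rw [h2]; exact hd'c)
    rw [hk] at h2
    have haa : a' = a := Subtype.ext (inv_mul_eq_one.1 hk)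
    subst haa
    simp only [one_mul, inv_one, mul_one] at h2
    exact Prod.ext rfl (Subtype.ext (Subtype.ext h2))
  have hcard : Nat.card {x : G // x ∈ nrm' z ∧ x ∉ cen z} ≤
      Nat.card (↥(cen z) × {d : two z u // d ≠ 1}) := by
    have h2 : Nat.card {d : two z u // d ≠ 1} = idx z - 1 := by
      rw [Nat.card_eq_fintype_card, Fintype.card_subtype_compl, ← Nat.card_eq_fintype_card,
        g0.card_two hu huN]
      simp
    rw [Nat.card_prod, h2, Nat.mul_sub, mul_one, ← g0.card_nrm, Nat.card_eq_fintype_card,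
      Fintype.card_subtype, Nat.card_eq_fintype_card, Fintype.card_subtype,
      Nat.card_eq_fintype_card, Fintype.card_subtype, ← Finset.card_sdiff_of_subset (by
        intro v hv
        simp only [Finset.mem_filter, Finset.mem_univ, true_and] at hv ⊢
        exact Subgroup.le_normalizer hv)]
    refine le_of_eq (congrArg Finset.card ?_)
    ext v
    simp
  obtain ⟨⟨a, d, hd⟩, he⟩ := (hf.bijective_of_nat_card_le hcard).2 ⟨x, hx, hxA⟩
  exact ⟨a, a.2, d, d.2, fun e => hd (Subtype.ext e), (congrArg Subtype.val he).symm⟩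

theorem card_fix {u d : G} (hu : orderOf u = 2) (huN : u ∉ nrm' z) (hd : d ∈ two z u)
    (hd1 : d ≠ 1) :
    Nat.card {y : G ⧸ nrm' z // d • y = y} * idx z = 2 * Nat.card (cen d) := by
  classical
  have hg := g0.sq_ne_one hu huN hd hd1
  have hinv := g0.inverted hu huN hd
  set M := Subgroup.normalizer (cen d : Set G) with hM
  set S := (nrm' z).subgroupOf M with hS
  have hnorm : ∀ m ∈ M, m⁻¹ * d * m ∈ nrm' z := by
    intro m hm
    have hd' := (mem_two.1 hd).1
    rcases g0.normalizer_cases hg hu hinv hm with hc | hc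
    · rw [mul_assoc, ← mem_cen.1 hc, inv_mul_cancel_left]; exact hd'
    · have e1 : (u * m)⁻¹ * d⁻¹ * (u * m) = d⁻¹ := by
        have := mem_cen.1 (inv_mem hc)
        calc (u * m)⁻¹ * d⁻¹ * (u * m) = ((u * m)⁻¹ * d * (u * m))⁻¹ := by group
          _ = d⁻¹ := by rw [this]; group
      have : m⁻¹ * d * m = d⁻¹ := by
        calc m⁻¹ * d * m = (u * m)⁻¹ * (u * d * u⁻¹) * (u * m) := by group
          _ = d⁻¹ := by rw [hinv, e1]
      rw [this]; exact inv_mem hd'
  have hcardS : Nat.card S = idx z := by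
    rw [hS, Subgroup.subgroupOf, ← g0.card_two hu huN, ← g0.normalizer_inf hu huN hd hd1]
    refine Nat.card_congr
      { toFun := fun m => ⟨m.1.1, m.1.2, m.2⟩
        invFun := fun m => ⟨⟨m.1, m.2.1⟩, m.2.2⟩
        left_inv := fun m => rfl
        right_inv := fun m => rfl }
  have he : Nat.card {y : G ⧸ nrm' z // d • y = y} = S.index := by
    rw [Subgroup.index_eq_card]
    refine (Nat.card_eq_of_bijective
      (Quotient.lift (fun m : M => (⟨((m : G) : G ⧸ nrm' z), smul_coset_eq_iff.2 (hnorm m m.2)⟩ :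
        {y : G ⧸ nrm' z // d • y = y})) ?_) ⟨?_, ?_⟩).symm
    · intro a b hab
      have hab' : a⁻¹ * b ∈ S := by simpa [QuotientGroup.leftRel_apply] using hab
      exact Subtype.ext (QuotientGroup.eq.2 hab')
    · intro a b
      refine Quotient.inductionOn₂ a b fun a b hab => Quotient.sound ?_
      show (QuotientGroup.leftRel _).r a b
      rw [QuotientGroup.leftRel_apply]
      have hab' : ((a : G) : G ⧸ nrm' z) = ((b : G) : G ⧸ nrm' z) := congrArg Subtype.val hab
      rw [hS, Subgroup.mem_subgroupOf]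
      push_cast
      exact QuotientGroup.eq.1 hab'
    · rintro ⟨y, hy⟩
      by_cases h1 : y = ((1 : G) : G ⧸ nrm' z)
      · exact ⟨QuotientGroup.mk (1 : M), Subtype.ext h1.symm⟩
      obtain ⟨w, hw, hwN, rfl⟩ := g0.exists_swapper h1
      have hdw : d ∈ two z w := (g0.mem_two_iff_fix (mem_two.1 hd).1).1 hy
      exact ⟨QuotientGroup.mk ⟨w, g0.mem_normalizer_of_inverts hg (g0.inverted hw hwN hdw)⟩,
        Subtype.ext rfl⟩
  rw [he, ← hcardS, ← g0.card_normalizer hg hu hinv, mul_comm, Subgroup.card_mul_index]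

theorem index_eq {u d : G} (hu : orderOf u = 2) (huN : u ∉ nrm' z) (hd : d ∈ two z u)
    (hd1 : d ≠ 1) :
    (nrm' z).index + Nat.card (cen z) =
      1 + Nat.card (cen z) * Nat.card {y : G ⧸ nrm' z // d • y = y} := by
  classical
  have := Fintype.ofFinite (G ⧸ nrm' z)
  let one : G ⧸ nrm' z := ((1 : G) : G ⧸ nrm' z)
  have hone : ∀ a ∈ nrm' z, a • one = one := fun a ha => by
    show a • ((1 : G) : G ⧸ nrm' z) = _
    rw [smul_one_coset]; exact mk_eq_one_iff.2 ha
  let f : ↥(cen z) × {y : G ⧸ nrm' z // d • y = y ∧ y ≠ one} →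
      {y : G ⧸ nrm' z // y ≠ one} := fun p =>
    ⟨(p.1 : G) • p.2.1, fun e => p.2.2.2 (MulAction.injective (p.1 : G)
      (e.trans (hone _ (Subgroup.le_normalizer p.1.2)).symm))⟩
  have hf : Function.Bijective f := by
    constructor
    · rintro ⟨a, y, hy, hy1⟩ ⟨a', y', hy', hy1'⟩ he
      have he' : (a : G) • y = (a' : G) • y' := congrArg Subtype.val he
      set k := (a' : G)⁻¹ * a with hk
      have hky : k • y = y' := by rw [hk, mul_smul, he', inv_smul_smul]
      have hkA : k ∈ cen z := mul_mem (inv_mem a'.2) a.2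
      have hfix : (k * d * k⁻¹) • y' = y' := by
        rw [← hky, smul_smul, inv_mul_cancel_right, mul_smul, hy]
      obtain ⟨w, hw, hwN, rfl⟩ := g0.exists_swapper hy1'
      have hdw : d ∈ two z w := (g0.mem_two_iff_fix (mem_two.1 hd).1).1 hy'
      have hcw : k * d * k⁻¹ ∈ two z w := (g0.mem_two_iff_fix (mul_mem (mul_mem
        (Subgroup.le_normalizer hkA) (mem_two.1 hd).1)
        (inv_mem (Subgroup.le_normalizer hkA)))).1 hfix
      have hk1 : k = 1 := g0.conj_inter hw hwN hdw hd1 hkA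
        ((g0.cen_inf hw hwN hdw hd1).symm.le hcw).1
      have haa : a' = a := Subtype.ext (inv_mul_eq_one.1 hk1)
      subst haa
      exact Prod.ext rfl (Subtype.ext (MulAction.injective (a' : G) he'))
    · rintro ⟨y, hy⟩
      obtain ⟨w, hw, hwN, rfl⟩ := g0.exists_swapper hy
      obtain ⟨d₁, hd₁⟩ : ∃ d₁ : two z w, d₁ ≠ 1 := by
        have : Nontrivial (two z w) := by
          rw [← Finite.one_lt_card_iff_nontrivial, g0.card_two hw hwN]
          have := g0.three_le
          omega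
        exact exists_ne 1
      have hd₁' : (d₁ : G) ≠ 1 := fun e => hd₁ (Subtype.ext e)
      obtain ⟨a, ha, d', hd', hd'1, hx⟩ := g0.exists_conj_two hu huN (mem_two.1 d₁.2).1
        (fun e => hd₁' (g0.two_inter hw hwN e (mem_two.1 d₁.2).2))
      have hfix : d' • (a⁻¹ • ((w : G) : G ⧸ nrm' z)) = a⁻¹ • ((w : G) : G ⧸ nrm' z) := by
        have h1 : (d₁ : G) • ((w : G) : G ⧸ nrm' z) = ((w : G) : G ⧸ nrm' z) :=
          (g0.mem_two_iff_fix (mem_two.1 d₁.2).1).2 d₁.2
        rw [hx, mul_smul, mul_smul] at h1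
        exact eq_inv_smul_iff.2 h1
      have hfd := g0.fix_sub hu huN hd' hd'1 hd hfix
      refine ⟨⟨⟨a, ha⟩, a⁻¹ • ((w : G) : G ⧸ nrm' z), hfd, fun e => hy ?_⟩, Subtype.ext ?_⟩
      · rw [← hone a (Subgroup.le_normalizer ha)]
        exact inv_smul_eq_iff.1 e
      · exact smul_inv_smul a _
  have h1 := Nat.card_eq_of_bijective f hf
  rw [Nat.card_prod] at h1
  have hd_one : d • one = one := hone d (mem_two.1 hd).1
  have h2 : Nat.card {y : G ⧸ nrm' z // d • y = y ∧ y ≠ one} + 1 =
      Nat.card {y : G ⧸ nrm' z // d • y = y} := by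
    rw [Nat.card_eq_fintype_card, Nat.card_eq_fintype_card, Fintype.card_subtype,
      Fintype.card_subtype]
    rw [show (Finset.univ.filter fun y : G ⧸ nrm' z => d • y = y) =
      insert one (Finset.univ.filter fun y : G ⧸ nrm' z => d • y = y ∧ y ≠ one) by
        ext y
        simp only [Finset.mem_filter, Finset.mem_univ, true_and, Finset.mem_insert]
        constructor
        · intro h; by_cases hy : y = one
          · exact Or.inl hy
          · exact Or.inr ⟨h, hy⟩
        · rintro (rfl | h)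
          · exact hd_one
          · exact h.1]
    rw [Finset.card_insert_of_notMem (by simp)]
  have h3 : Nat.card {y : G ⧸ nrm' z // y ≠ one} + 1 = (nrm' z).index := by
    rw [Subgroup.index_eq_card, Nat.card_eq_fintype_card, Nat.card_eq_fintype_card,
      Fintype.card_subtype_compl, Fintype.card_subtype_eq]
    have : 0 < Fintype.card (G ⧸ nrm' z) := Fintype.card_pos
    omega
  rw [← h2, ← h3, ← h1]
  ring

end Good

end Cfsg.Agent.Lib.CASimple67
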