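import Cfsg.Agent.Lib.CASimple67.Count

/-!
# CT simple groups: `|G : N| = |cen z| + 1`
-/

set_option autoImplicit false
set_option maxHeartbeats 1000000

namespace Cfsg.Agent.Lib.CASimple67

open Cfsg.Agent.Lib.Involutions.Basic Cfsg.Agent.Lib.Fusion.Swappers

/-- The arithmetic with one class of inverted centralisers. -/
theorem no_one_class {e f b : ℕ} (he : 3 ≤ e) (hb : b = 2 * e * f + 1)
    (h2 : (f + 1) * e = 2 * b) : False := by
  subst hb
  rcases f with _ | f
  · omega
  · nlinarith

/-- The arithmetic with two classes. -/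
theorem two_classes {e f b c x y n Ω : ℕ} (he : 3 ≤ e) (hΩ : 0 < Ω) (hn : n = Ω * (e + 1) * e)
    (h2 : (f + 1) * e = 2 * b) (hc : b + c = 2 * e * f + 2) (hx : 2 * b * x + n = n * b)
    (hy : 2 * c * y + n = n * c) (hle : x + y + Ω * e + 1 ≤ n) : f ≤ 1 := by
  by_contra hf
  push Not at hf
  have hb : e + 2 ≤ b := by nlinarith
  have hcb : e + 2 ≤ c := by nlinarith
  have h := Nat.mul_le_mul_left (2 * b * c) hle
  have key : 2 * b * c * (Ω * e) < n * c + n * b := by
    nlinarith [Nat.mul_pos (show 0 < b by omega) (show 0 < c by omega)]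
  rw [hn] at key
  have h3 : 2 * b * c < (e + 1) * (b + c) := by
    by_contra h4
    push Not at h4
    have h5 := Nat.mul_le_mul_left (Ω * e) h4
    linarith
  have h4 : (e + 1) * b < c * b := Nat.mul_lt_mul_of_pos_right (by omega) (by omega)
  have h5 : (e + 1) * c < b * c := Nat.mul_lt_mul_of_pos_right (by omega) (by omega)
  nlinarith

namespace Good

variable {G : Type*} [Group G] [Finite G] {z : G} (g0 : Good z)
include g0

omit [Finite G] in
theorem two_ne_one {w : G} (hw : w * w ≠ 1) : w ≠ 1 := g0.ne_one_of_sq hw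

theorem card_cen_ge {g : G} (hg : g * g ≠ 1) : 3 ≤ Nat.card (cen g) := by
  have h2 : Odd (Nat.card (cen g)) := (odd_card_iff_no_invol _).2 (g0.odd_cen hg)
  have h1 : Nat.card (cen g) ≠ 1 := fun e => g0.ne_one_of_sq hg
    (Subgroup.mem_bot.1 (Subgroup.card_eq_one.1 e ▸ self_mem g))
  obtain ⟨k, hk⟩ := h2
  omega

theorem exists_pair : ∃ u d : G, orderOf u = 2 ∧ u ∉ nrm' z ∧ d ∈ two z u ∧ d ≠ 1 := by
  obtain ⟨u, hu, huN⟩ := g0.exists_outside
  have : Nontrivial (two z u) := by
    rw [← Finite.one_lt_card_iff_nontrivial, g0.card_two hu huN]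
    have := g0.three_le
    omega
  obtain ⟨d, hd⟩ := exists_ne (1 : two z u)
  exact ⟨u, d, hu, huN, d.2, fun e => hd (Subtype.ext e)⟩

theorem degree : (nrm' z).index = Nat.card (cen z) + 1 := by
  classical
  obtain ⟨u, d, hu, huN, hd, hd1⟩ := g0.exists_pair
  have := Fintype.ofFinite G
  have hg := g0.sq_ne_one hu huN hd hd1
  have hinv := g0.inverted hu huN hd
  have hlt := g0.card_lt_index
  have hidx := g0.index_eq hu huN hd hd1
  have hfix := g0.card_fix hu huN hd hd1
  have he := g0.three_le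
  have hq := g0.card_cen
  have hn : Nat.card G = (nrm' z).index * (idx z + 1) * idx z := by
    rw [← Subgroup.index_mul_card (nrm' z), g0.card_nrm, hq, mul_assoc]
  have hsum := g0.sum_rset
  have hI := g0.card_invols
  generalize hF : Nat.card {y : G ⧸ nrm' z // d • y = y} = F at hidx hfix
  generalize hΩ : (nrm' z).index = Ω at hlt hidx hn hsum hI ⊢
  rw [hq] at hlt hidx ⊢
  obtain ⟨f, rfl⟩ : ∃ f, F = f + 1 := ⟨F - 1, by
    rcases F with _ | F
    · omega
    · rfl⟩
  have hΩf : Ω = (idx z + 1) * f + 1 := by rw [mul_add, mul_one] at hidx; omega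
  suffices hf : f ≤ 1 by
    rcases Nat.le_one_iff_eq_zero_or_eq_one.1 hf with rfl | rfl
    · omega
    · omega
  set R := Finset.univ.filter (· ∈ Rset G) with hR
  have hRsum : ∑ g ∈ R, Nat.card (cen g) = Nat.card G * idx z * f := by
    rw [hn]
    have : Ω * idx z * (Ω * idx z) = Ω * (idx z + 1) * idx z * idx z * f + Ω * idx z * idx z := by
      rw [hΩf]; ring
    omega
  have hX : ∀ g v : G, g * g ≠ 1 → orderOf v = 2 → v * g * v⁻¹ = g⁻¹ →
      2 * Nat.card (cen g) * (Conjs g).toFinset.card + Nat.card G =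
        Nat.card G * Nat.card (cen g) ∧
      (Conjs g).toFinset ⊆ R ∧
      ∑ y ∈ (Conjs g).toFinset, Nat.card (cen y) =
        (Conjs g).toFinset.card * Nat.card (cen g) := by
    intro g v h1 h2 h3
    refine ⟨?_, ?_, ?_⟩
    · rw [← Set.ncard_eq_toFinset_card', g0.card_conjs h1 h2 h3, ← Nat.mul_add_one,
        Nat.sub_add_cancel]
      exact Nat.card_pos
    · intro y hy
      rw [Set.mem_toFinset] at hy
      exact Finset.mem_filter.2 ⟨Finset.mem_univ _, g0.conjs_sub h1 h2 h3 hy⟩
    · rw [Finset.sum_congr rfl fun y hy => g0.card_cen_of_mem h1 (Set.mem_toFinset.1 hy),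
        Finset.sum_const, smul_eq_mul]
  have hself : ∀ g : G, g ≠ 1 → g ∈ Conjs g := fun g h => ⟨h, 1, by simp [self_mem]⟩
  have hdR : d ∈ R := Finset.mem_filter.2 ⟨Finset.mem_univ _, hg, u, hu, hinv⟩
  obtain ⟨hx1, hxs, hxsum⟩ := hX d u hg hu hinv
  have hnpos : 0 < Nat.card G := Nat.card_pos
  by_cases hall : ∀ g ∈ R, g ∈ Conjs d
  · exfalso
    have hRe : R = (Conjs d).toFinset :=
      Finset.Subset.antisymm (fun g hgR => Set.mem_toFinset.2 (hall g hgR)) hxs
    rw [hRe, hxsum] at hRsum
    refine no_one_class he (b := Nat.card (cen d)) ?_ hfix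
    refine Nat.eq_of_mul_eq_mul_left hnpos ?_
    linarith
  push Not at hall
  obtain ⟨g, hgR, hgd⟩ := hall
  obtain ⟨hg2, v, hv, hvinv⟩ := (Finset.mem_filter.1 hgR).2
  obtain ⟨hy1, hys, hysum⟩ := hX g v hg2 hv hvinv
  have hdisj : Disjoint (Conjs d).toFinset (Conjs g).toFinset := by
    rw [Finset.disjoint_left]
    intro y h1 h2
    rw [Set.mem_toFinset] at h1 h2
    exact hgd (g0.conjs_meet hd1 (g0.two_ne_one hg2) h1 h2)
  have hbig : R ⊆ (Conjs d).toFinset ∪ (Conjs g).toFinset := by
    by_contra hc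
    rw [Finset.not_subset] at hc
    obtain ⟨k, hkR, hk⟩ := hc
    obtain ⟨hk2, w, hw, hwinv⟩ := (Finset.mem_filter.1 hkR).2
    obtain ⟨hz1, hzs, -⟩ := hX k w hk2 hw hwinv
    rw [Finset.mem_union, Set.mem_toFinset, Set.mem_toFinset, not_or] at hk
    have hd3 : Disjoint ((Conjs d).toFinset ∪ (Conjs g).toFinset) (Conjs k).toFinset := by
      rw [Finset.disjoint_left]
      intro y h1 h2
      rw [Set.mem_toFinset] at h2
      rcases Finset.mem_union.1 h1 with h1 | h1 <;> rw [Set.mem_toFinset] at h1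
      · exact hk.1 (g0.conjs_meet hd1 (g0.two_ne_one hk2) h1 h2)
      · exact hk.2 (g0.conjs_meet (g0.two_ne_one hg2) (g0.two_ne_one hk2) h1 h2)
    have hle : ((Conjs d).toFinset ∪ (Conjs g).toFinset ∪ (Conjs k).toFinset).card <
        Nat.card G := by
      rw [Nat.card_eq_fintype_card]
      refine Finset.card_lt_univ_of_notMem (x := (1 : G)) ?_
      intro hmem
      simp only [Finset.mem_union, Set.mem_toFinset] at hmem
      rcases hmem with (hm | hm) | hm <;> exact hm.1 rfl
    rw [Finset.card_union_of_disjoint hd3, Finset.card_union_of_disjoint hdisj] at hle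
    have hthird : ∀ c x : ℕ, 3 ≤ c → 2 * c * x + Nat.card G = Nat.card G * c →
        Nat.card G ≤ 3 * x := by
      intro c x hc hh
      by_contra h4
      push Not at h4
      nlinarith
    have t1 := hthird _ _ (g0.card_cen_ge hg) hx1
    have t2 := hthird _ _ (g0.card_cen_ge hg2) hy1
    have t3 := hthird _ _ (g0.card_cen_ge hk2) hz1
    omega
  have hRe : R = (Conjs d).toFinset ∪ (Conjs g).toFinset :=
    Finset.Subset.antisymm hbig (Finset.union_subset hxs hys)
  rw [hRe, Finset.sum_union hdisj, hxsum, hysum] at hRsum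
  have hle : (Conjs d).toFinset.card + (Conjs g).toFinset.card + Ω * idx z + 1 ≤ Nat.card G := by
    have hI' : Ω * idx z = (Finset.univ.filter fun i : G => orderOf i = 2).card := by
      rw [← hI, Nat.card_eq_fintype_card, Fintype.card_subtype]
    have h1 : (1 : G) ∉ R ∪ Finset.univ.filter fun i : G => orderOf i = 2 := by
      intro hmem
      rcases Finset.mem_union.1 hmem with hm | hm
      · exact (Finset.mem_filter.1 hm).2.1 (mul_one 1)
      · exact invol_ne_one (Finset.mem_filter.1 hm).2 rfl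
    have h2 : Disjoint R (Finset.univ.filter fun i : G => orderOf i = 2) := by
      rw [Finset.disjoint_left]
      intro y h3 h4
      exact (Finset.mem_filter.1 h3).2.1 (invol_mul_self (Finset.mem_filter.1 h4).2)
    have h3 := Finset.card_lt_univ_of_notMem h1
    rw [Finset.card_union_of_disjoint h2, hRe, Finset.card_union_of_disjoint hdisj,
      ← Nat.card_eq_fintype_card, ← hI'] at h3
    omega
  have hc : Nat.card (cen d) + Nat.card (cen g) = 2 * idx z * f + 2 := by
    refine Nat.eq_of_mul_eq_mul_left hnpos ?_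
    linarith
  exact two_classes he (by omega) hn hfix hc hx1 hy1 hle

/-- A non-identity element of a two point stabiliser fixes exactly two points. -/
theorem fix_two {u d : G} (hu : orderOf u = 2) (huN : u ∉ nrm' z) (hd : d ∈ two z u)
    (hd1 : d ≠ 1) {y : G ⧸ nrm' z} (hy : d • y = y) :
    y = ((1 : G) : G ⧸ nrm' z) ∨ y = ((u : G) : G ⧸ nrm' z) := by
  classical
  have := Fintype.ofFinite (G ⧸ nrm' z)
  have h := g0.index_eq hu huN hd hd1
  rw [g0.degree, g0.card_cen] at h
  have hF : Nat.card {y : G ⧸ nrm' z // d • y = y} = 2 := by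
    refine Nat.eq_of_mul_eq_mul_left (show 0 < idx z + 1 by omega) ?_
    omega
  rw [Nat.card_eq_fintype_card, Fintype.card_subtype] at hF
  by_contra hne
  rw [not_or] at hne
  have hsub : ({((1 : G) : G ⧸ nrm' z), ((u : G) : G ⧸ nrm' z), y} : Finset (G ⧸ nrm' z)) ⊆
      Finset.univ.filter fun y => d • y = y := by
    intro w hw
    simp only [Finset.mem_insert, Finset.mem_singleton] at hw
    simp only [Finset.mem_filter, Finset.mem_univ, true_and]
    rcases hw with rfl | rfl | rfl
    · rw [smul_one_coset]; exact mk_eq_one_iff.2 (mem_two.1 hd).1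
    · exact (g0.mem_two_iff_fix (mem_two.1 hd).1).2 hd
    · exact hy
  have h3 := Finset.card_le_card hsub
  rw [Finset.card_eq_three.2 ⟨_, _, _, fun e => huN (mk_eq_one_iff.1 e.symm), Ne.symm hne.1,
    Ne.symm hne.2, rfl⟩, hF] at h3
  omega

end Good

end Cfsg.Agent.Lib.CASimple67
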