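import Cfsg.Agent.Lib.CASimple67.Basic
import Cfsg.Agent.Lib.Fusion.Swappers
import Cfsg.Agent.Lib.Zassenhaus.AbelianChars

/-!
# CT simple groups: the involution centraliser is elementary

`Good z`: the normaliser of `cen z` is strongly embedded and contains involutions only in
`cen z`.  Then the centraliser is an elementary abelian 2-group (`Good.sq_eq_one`) and a two point
stabiliser has order `e = |N : cen z|` and is inverted by the swapping involution.
-/

set_option autoImplicit false

namespace Cfsg.Agent.Lib.CASimple67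

open Cfsg.Agent.Lib.Involutions.Basic Cfsg.Agent.Lib.Involutions.StronglyEmbedded
open Cfsg.Agent.Lib.Fusion.Swappers

variable {G : Type*} [Group G]

/-- The normaliser of a centraliser. -/
abbrev nrm' (z : G) : Subgroup G := Subgroup.normalizer (cen z : Set G)

/-- The index of the centraliser in its normaliser. -/
noncomputable abbrev idx (z : G) : ℕ := ((cen z).subgroupOf (nrm' z)).index

/-- The local hypothesis. -/
structure Good (z : G) : Prop where
  ct : IsCT G
  ord : orderOf z = 2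
  emb : Cfsg.IsStronglyEmbedded (nrm' z)
  mem : ∀ v ∈ nrm' z, orderOf v = 2 → v ∈ cen z
  odd : Odd (idx z)
  lt : cen z < nrm' z

theorem exists_good [Finite G] [IsSimpleGroup G] (hG : ¬ IsMulCommutative G) (h : IsCT G) :
    ∃ z : G, Good z := by
  classical
  have heven := even_card h hG
  obtain ⟨z₀, S, hz1, hzS, hSz⟩ := exists_hall h 2 heven.two_dvd
  have : Fact (Nat.Prime 2) := ⟨Nat.prime_two⟩
  obtain ⟨z, hzo⟩ := exists_prime_orderOf_dvd_card' (G := (S : Subgroup G)) 2 (by
    obtain ⟨n, hn⟩ := S.isPGroup'.exists_card_eq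
    rw [hn]
    refine dvd_pow_self 2 ?_
    rintro rfl
    rw [pow_zero, Subgroup.card_eq_one] at hn
    exact hz1 (Subgroup.mem_bot.1 (hn ▸ hzS)))
  rw [← Subgroup.orderOf_coe] at hzo
  have hz : (z : G) ≠ 1 := invol_ne_one hzo
  have hSA : (S : Subgroup G) ≤ cen (z : G) := by
    rw [cen_eq h hz1 (hSz z.2) hz]; exact hSz
  have hidx : Odd (cen (z : G)).index := Nat.not_even_iff_odd.1 fun he =>
    S.not_dvd_index (he.two_dvd.trans (Subgroup.index_dvd_of_le hSA))
  have hodd : Odd (idx (z : G)) := by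
    have : (cen (z : G)).relIndex (nrm' (z : G)) ∣ (cen (z : G)).index :=
      Subgroup.relIndex_dvd_index_of_le Subgroup.le_normalizer
    exact hidx.of_dvd_nat this
  have hmem : ∀ v ∈ nrm' (z : G), orderOf v = 2 → v ∈ cen (z : G) := by
    intro v hv hvo
    set A' := (cen (z : G)).subgroupOf (nrm' (z : G))
    let vN : nrm' (z : G) := ⟨v, hv⟩
    have h1 : orderOf (QuotientGroup.mk' A' vN) ∣ 2 := by
      have := orderOf_map_dvd (QuotientGroup.mk' A') vN
      rwa [Subgroup.orderOf_mk, hvo] at this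
    have h2 : orderOf (QuotientGroup.mk' A' vN) ∣ idx (z : G) := orderOf_dvd_natCard _
    rcases (Nat.dvd_prime Nat.prime_two).1 h1 with e | e
    · have := orderOf_eq_one_iff.1 e
      rw [QuotientGroup.mk'_apply, QuotientGroup.eq_one_iff] at this
      exact this
    · rw [e] at h2
      exact absurd (even_iff_two_dvd.2 h2) (Nat.not_even_iff_odd.2 hodd)
  have hne : nrm' (z : G) ≠ ⊤ := by
    intro ht
    have : (cen (z : G)).Normal := Subgroup.normalizer_eq_top_iff.1 ht
    rcases IsSimpleGroup.eq_bot_or_eq_top_of_normal _ this with hb | hb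
    · exact hz (Subgroup.mem_bot.1 (hb ▸ self_mem (z : G)))
    · exact hG ⟨⟨fun a b => comm_of_mem h hz (hb ▸ Subgroup.mem_top a) (hb ▸ Subgroup.mem_top b)⟩⟩
  have hev : Even (Nat.card (nrm' (z : G))) := by
    have hd := orderOf_dvd_natCard (⟨z, Subgroup.le_normalizer (self_mem (z : G))⟩ :
      nrm' (z : G))
    rw [Subgroup.orderOf_mk, hzo] at hd
    exact even_iff_two_dvd.2 hd
  refine ⟨z, h, hzo, of_forall_conj hne hev ?_, hmem, hodd, ?_⟩
  · intro t ht hto g hg
    exact mem_normalizer_of_meet h hz (hmem t ht hto) (invol_ne_one hto)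
      (hmem _ hg ((orderOf_conj_eq g t).trans hto))
  · refine lt_of_le_of_ne Subgroup.le_normalizer fun e => ?_
    have hN : Subgroup.normalizer ((S : Subgroup G) : Set G) ≤
        Subgroup.centralizer ((S : Subgroup G) : Set G) := by
      intro g hg
      have hgA : g ∈ cen (z : G) := by
        rw [e]
        exact mem_normalizer_of_meet h hz (self_mem _) hz
          (hSA ((Subgroup.mem_normalizer_iff.1 hg _).1 z.2))
      exact Subgroup.mem_centralizer_iff.2 fun s hs => comm_of_mem h hz (hSA hs) hgA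
    have hc := MonoidHom.ker_transferSylow_isComplement' S hN
    rcases IsSimpleGroup.eq_bot_or_eq_top_of_normal (MonoidHom.transferSylow S hN).ker
      inferInstance with hb | hb
    · rw [hb, Subgroup.isComplement'_bot_left] at hc
      exact hG ⟨⟨fun a b => comm_of_mem h hz (hSA (by simp [hc])) (hSA (by simp [hc]))⟩⟩
    · rw [hb, Subgroup.isComplement'_top_left] at hc
      exact hz (Subgroup.mem_bot.1 (hc ▸ z.2))

namespace Good

variable [Finite G] {z : G} (g0 : Good z)
include g0

omit [Finite G] in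
theorem ne_one : z ≠ 1 := invol_ne_one g0.ord

omit [Finite G] in
theorem ti : ∀ g : G, g ∉ nrm' z → ∀ k ∈ cen z, g * k * g⁻¹ ∈ cen z → k = 1 :=
  isTI g0.ct g0.ne_one

omit [Finite G] in
theorem self_cen : ∀ k ∈ cen z, k ≠ 1 → cen k ≤ cen z := fun _ hk hk1 =>
  (cen_eq g0.ct g0.ne_one hk hk1).le

omit [Finite G] in
theorem comm : ∀ a ∈ cen z, ∀ b ∈ cen z, a * b = b * a :=
  fun _ ha _ hb => comm_of_mem g0.ct g0.ne_one ha hb

theorem exists_outside : ∃ u : G, orderOf u = 2 ∧ u ∉ nrm' z := by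
  by_contra hc
  push_neg at hc
  apply g0.emb.1
  rw [eq_top_iff]
  intro g _
  exact mem_of_conj_mem g0.emb g0.ord (Subgroup.le_normalizer (self_mem z))
    (hc _ ((orderOf_conj_eq g z).trans g0.ord))

theorem isConj_invol {v : G} (hv : orderOf v = 2) : IsConj z v :=
  isConj_involutions g0.emb g0.ord hv

theorem conj_in_nrm {v : G} (hv : v ∈ cen z) (hvo : orderOf v = 2) :
    ∃ g : nrm' z, (g : G) * z * (g : G)⁻¹ = v := by
  obtain ⟨g, hg⟩ := isConj_iff.1 (g0.isConj_invol hvo)
  exact ⟨⟨g, mem_of_conj_mem g0.emb g0.ord (Subgroup.le_normalizer (self_mem z))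
    (hg ▸ Subgroup.le_normalizer hv)⟩, hg⟩

/-- There are `e` involutions in the normaliser. -/
theorem card_inv : Nat.card (Fusion.Swappers.Inv (nrm' z)) = idx z := by
  classical
  rw [idx, Subgroup.index_eq_card]
  refine (Nat.card_eq_of_bijective
    (Quotient.lift (fun g : nrm' z =>
      (⟨(g : G) * z * (g : G)⁻¹, (orderOf_conj_eq _ z).trans g0.ord,
        mul_mem (mul_mem g.2 (Subgroup.le_normalizer (self_mem z))) (inv_mem g.2)⟩ :
          Fusion.Swappers.Inv (nrm' z))) ?_) ⟨?_, ?_⟩).symm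
  · intro a b hab
    have hab' : a⁻¹ * b ∈ (cen z).subgroupOf (nrm' z) := by
      simpa [QuotientGroup.leftRel_apply] using hab
    rw [Subgroup.mem_subgroupOf] at hab'
    push_cast at hab'
    rw [mem_cen] at hab'
    refine Subtype.ext ?_
    show (a : G) * z * (a : G)⁻¹ = (b : G) * z * (b : G)⁻¹
    calc (a : G) * z * (a : G)⁻¹ = (a : G) * (z * ((a : G)⁻¹ * b)) * (b : G)⁻¹ := by group
      _ = (a : G) * (((a : G)⁻¹ * b) * z) * (b : G)⁻¹ := by rw [hab']
      _ = (b : G) * z * (b : G)⁻¹ := by group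
  · intro a b
    refine Quotient.inductionOn₂ a b fun a b hab => Quotient.sound ?_
    have hab' : (a : G) * z * (a : G)⁻¹ = (b : G) * z * (b : G)⁻¹ := congrArg Subtype.val hab
    show (QuotientGroup.leftRel _).r a b
    rw [QuotientGroup.leftRel_apply, Subgroup.mem_subgroupOf]
    push_cast
    rw [mem_cen]
    calc (a : G)⁻¹ * b * z = (a : G)⁻¹ * ((b : G) * z * (b : G)⁻¹) * b := by group
      _ = z * ((a : G)⁻¹ * b) := by rw [← hab']; group
  · rintro ⟨v, hvo, hv⟩
    obtain ⟨g, hg⟩ := g0.conj_in_nrm (g0.mem v hv hvo) hvo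
    exact ⟨QuotientGroup.mk g, Subtype.ext hg⟩

theorem card_nrm : Nat.card (nrm' z) = Nat.card (cen z) * idx z := by
  rw [← ((cen z).subgroupOf (nrm' z)).card_mul_index,
    Nat.card_congr (Subgroup.subgroupOfEquivOfLe Subgroup.le_normalizer).toEquiv]

theorem three_le : 3 ≤ idx z := by
  have h1 : idx z ≠ 1 := by
    intro e
    rw [idx, Subgroup.index_eq_one, Subgroup.subgroupOf_eq_top] at e
    exact g0.lt.not_ge e
  obtain ⟨k, hk⟩ := g0.odd
  omega

/-- The stabiliser of `N` and of `u N`. -/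
abbrev two (z u : G) : Subgroup G := nrm' z ⊓ (nrm' z).map (MulAut.conj u).toMonoidHom

omit g0 [Finite G] in
theorem mem_two {u d : G} : d ∈ two z u ↔ d ∈ nrm' z ∧ u⁻¹ * d * u ∈ nrm' z := by
  rw [two, Subgroup.mem_inf, mem_conj_iff]

omit [Finite G] in
theorem two_inter {u k : G} (hu : orderOf u = 2) (huN : u ∉ nrm' z) (hk : k ∈ cen z)
    (hk2 : u⁻¹ * k * u ∈ nrm' z) : k = 1 := by
  by_contra hk1
  rw [invol_inv hu] at hk2
  set y := u * k * u with hy
  have huu := invol_mul_self hu
  have hky : k * y * k⁻¹ * y⁻¹ ∈ cen z := by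
    have h1 : y * k⁻¹ * y⁻¹ ∈ cen z :=
      conj_mem_of_normalizes g0.ct g0.ne_one hk2 (inv_mem hk)
    rw [show k * y * k⁻¹ * y⁻¹ = k * (y * k⁻¹ * y⁻¹) by group]
    exact mul_mem hk h1
  have hky2 : u * (k * y * k⁻¹ * y⁻¹) * u⁻¹ ∈ cen z := by
    have e1 : u * (k * y * k⁻¹ * y⁻¹) * u⁻¹ = y * k * y⁻¹ * k⁻¹ := by
      have h1 : u * k * u⁻¹ = y := by rw [hy, invol_inv hu]
      have h2 : u * y * u⁻¹ = k := by
        rw [hy, invol_inv hu, ← mul_assoc, ← mul_assoc, huu, one_mul, mul_assoc, huu, mul_one]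
      calc u * (k * y * k⁻¹ * y⁻¹) * u⁻¹
          = (u * k * u⁻¹) * (u * y * u⁻¹) * (u * k * u⁻¹)⁻¹ * (u * y * u⁻¹)⁻¹ := by group
        _ = _ := by rw [h1, h2]
    rw [e1]
    exact mul_mem (conj_mem_of_normalizes g0.ct g0.ne_one hk2 hk) (inv_mem hk)
  have hc := g0.ti u huN _ hky hky2
  have hyA : y ∈ cen k := mem_cen.2 (by
    have := mul_inv_eq_one.1 hc
    rw [mul_inv_eq_iff_eq_mul] at this
    exact this.symm)
  rw [cen_eq g0.ct g0.ne_one hk hk1] at hyA
  refine huN (mem_normalizer_of_meet g0.ct g0.ne_one hk hk1 ?_)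
  rwa [invol_inv hu]

theorem card_two {u : G} (hu : orderOf u = 2) (huN : u ∉ nrm' z) :
    Nat.card (two z u) = idx z := by
  classical
  apply le_antisymm
  · refine Nat.card_le_card_of_injective
      (fun d : two z u => (QuotientGroup.mk (⟨d, (mem_two.1 d.2).1⟩ : nrm' z) :
        nrm' z ⧸ (cen z).subgroupOf (nrm' z))) ?_
    intro a b hab
    rw [QuotientGroup.eq, Subgroup.mem_subgroupOf] at hab
    push_cast at hab
    have := g0.two_inter hu huN hab (mem_two.1 (mul_mem (inv_mem a.2) b.2)).2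
    exact Subtype.ext (inv_mul_eq_one.1 this)
  · rw [← g0.card_inv]
    refine Nat.card_le_card_of_surjective
      (fun d : two z u => (⟨(d : G) * z * (d : G)⁻¹, (orderOf_conj_eq _ z).trans g0.ord,
        mul_mem (mul_mem (mem_two.1 d.2).1 (Subgroup.le_normalizer (self_mem z)))
          (inv_mem (mem_two.1 d.2).1)⟩ : Fusion.Swappers.Inv (nrm' z))) ?_
    rintro ⟨v, hvo, hv⟩
    obtain ⟨d, hd, hdv⟩ := two_transitive g0.emb hu huN g0.ord
      (Subgroup.le_normalizer (self_mem z)) hvo hv
    exact ⟨⟨d, hd⟩, Subtype.ext hdv⟩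

theorem inverted {u d : G} (hu : orderOf u = 2) (huN : u ∉ nrm' z) (hd : d ∈ two z u) :
    u * d * u⁻¹ = d⁻¹ := by
  classical
  let f : Sw (nrm' z) ((u : G) : G ⧸ nrm' z) → two z u := fun w => ⟨u * w, by
    have h1 := w.2.2
    rw [smul_one_coset, QuotientGroup.eq, invol_inv w.2.1] at h1
    have h2 := inv_mem h1
    rw [mul_inv_rev, invol_inv hu, invol_inv w.2.1] at h2
    refine mem_two.2 ⟨h2, ?_⟩
    rw [invol_inv hu, ← mul_assoc u u, invol_mul_self hu, one_mul]
    exact h1⟩
  have hf : Function.Injective f := fun a b hab =>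
    Subtype.ext (mul_left_cancel (congrArg Subtype.val hab))
  have hb := hf.bijective_of_nat_card_le (by
    rw [g0.card_two hu huN, ← g0.card_inv]
    exact card_inv_le_card_sw g0.emb (fun e => huN (mk_eq_one_iff.1 e)))
  obtain ⟨w, hw⟩ := hb.2 ⟨d, hd⟩
  have hw' : u * (w : G) = d := congrArg Subtype.val hw
  rw [← hw', pair_inverts hu w.2.1]

theorem card_lt_index : Nat.card (cen z) + 1 ≤ (nrm' z).index := by
  classical
  obtain ⟨u, hu, huN⟩ := g0.exists_outside
  have := Fintype.ofFinite (G ⧸ nrm' z)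
  have := Fintype.ofFinite (cen z)
  rw [Subgroup.index_eq_card, Nat.card_eq_fintype_card, Nat.card_eq_fintype_card]
  let f : cen z → G ⧸ nrm' z := fun a => (((a : G) * u : G) : G ⧸ nrm' z)
  have hf : Function.Injective f := by
    intro a b hab
    have hab' : ((a : G) * u)⁻¹ * ((b : G) * u) ∈ nrm' z := QuotientGroup.eq.1 hab
    have := g0.two_inter hu huN (mul_mem (inv_mem a.2) b.2) (by
      simpa [mul_assoc] using hab')
    exact Subtype.ext (inv_mul_eq_one.1 this)
  have hmiss : ((1 : G) : G ⧸ nrm' z) ∉ Set.range f := by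
    rintro ⟨a, ha⟩
    have h2 := mk_eq_one_iff.1 ha
    exact huN (by simpa using mul_mem (inv_mem (Subgroup.le_normalizer a.2)) h2)
  have := Fintype.card_lt_of_injective_of_notMem f hf hmiss
  omega

/-- `Cfsg` coherence: the centraliser consists of `1` and involutions. -/
theorem sq_eq_one : ∀ a ∈ cen z, a * a = 1 := by
  classical
  by_contra hne
  push_neg at hne
  have := Fintype.ofFinite G
  have he := g0.three_le
  have hclass : Nat.card {v : G // v ∈ cen z ∧ v * v = 1 ∧ v ≠ 1} = idx z := by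
    rw [← g0.card_inv]
    refine Nat.card_congr (Equiv.subtypeEquivRight fun v => ?_)
    rw [invol_iff]
    exact ⟨fun hh => ⟨hh.2, Subgroup.le_normalizer hh.1⟩,
      fun hh => ⟨g0.mem v hh.2 (invol_iff.2 hh.1), hh.1⟩⟩
  have hconj : ∀ v ∈ cen z, v * v = 1 → v ≠ 1 →
      ∃ g : nrm' z, (g : G) * z * (g : G)⁻¹ = v :=
    fun v hv h1 h2 => g0.conj_in_nrm hv (invol_iff.2 ⟨h1, h2⟩)
  have hcount := (Cfsg.Agent.Lib.Zassenhaus.AbelianChars.deg_and_count (cen z) g0.ti g0.lt
    g0.self_cen g0.comm).2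
  let T : Subgroup G :=
    { carrier := {v | v ∈ cen z ∧ v * v = 1}
      one_mem' := ⟨one_mem _, one_mul 1⟩
      mul_mem' := fun {a b} ha hb => ⟨mul_mem ha.1 hb.1, by
        calc a * b * (a * b) = a * (b * a) * b := by group
          _ = a * (a * b) * b := by rw [g0.comm b hb.1 a ha.1]
          _ = (a * a) * (b * b) := by group
          _ = 1 := by rw [ha.2, hb.2, one_mul]⟩
      inv_mem' := fun {a} ha => ⟨inv_mem ha.1, by rw [← mul_inv_rev, ha.2, inv_one]⟩ }
  have hT : Nat.card T = idx z + 1 := by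
    rw [← hclass, Nat.card_eq_fintype_card, Nat.card_eq_fintype_card, Fintype.card_subtype,
      Fintype.card_subtype]
    have h1 : (Finset.univ.filter fun x : G => x ∈ T) =
        insert 1 (Finset.univ.filter fun v : G => v ∈ cen z ∧ v * v = 1 ∧ v ≠ 1) := by
      ext v
      simp only [Finset.mem_filter, Finset.mem_univ, true_and, Finset.mem_insert]
      constructor
      · intro hv; by_cases hv1 : v = 1
        · exact Or.inl hv1
        · exact Or.inr ⟨hv.1, hv.2, hv1⟩
      · rintro (rfl | hv)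
        · exact one_mem T
        · exact ⟨hv.1, hv.2.1⟩
    rw [h1, Finset.card_insert_of_notMem (by simp)]
  obtain ⟨a, ha, haa⟩ := hne
  have hTA : T ≤ cen z := fun x hx => hx.1
  obtain ⟨s, hs⟩ := Subgroup.card_dvd_of_le hTA
  rw [hT] at hs
  have hK : (idx z + 1) ^ 2 ≤ Nat.card (cen z) := by
    have hs1 : s ≠ 1 := by
      rintro rfl
      rw [mul_one] at hs
      have hTe := Subgroup.eq_of_le_of_card_ge hTA (by omega)
      exact haa ((hTe ▸ ha : a ∈ T).2)
    rw [hs, pow_two]
    refine Nat.mul_le_mul_left _ ?_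
    have hdvd : idx z ∣ s - 1 := by
      have h1 : (idx z : ℤ) ∣ (s : ℤ) - 1 := by
        refine ⟨(Nat.card (Cfsg.Agent.Lib.Zassenhaus.AbelianChars.RelChar (cen z)) : ℤ) - s, ?_⟩
        have := congrArg (fun n : ℕ => (n : ℤ)) (hcount.trans hs)
        push_cast at this
        linear_combination -this
      have hs0 : 1 ≤ s := by
        rcases Nat.eq_zero_or_pos s with rfl | hp
        · rw [mul_zero] at hs; exact absurd hs Nat.card_pos.ne'
        · exact hp
      rw [← Int.natCast_dvd_natCast, Nat.cast_sub hs0]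
      simpa using h1
    have hs2 : 2 ≤ s := by
      rcases s with _ | _ | s
      · rw [mul_zero] at hs; exact absurd hs Nat.card_pos.ne'
      · exact absurd rfl hs1
      · omega
    have := Nat.le_of_dvd (by omega) hdvd
    omega
  have hG : idx z * Nat.card (cen z) ^ 2 ≤ Nat.card G := by
    rw [← Subgroup.index_mul_card (nrm' z), g0.card_nrm]
    calc idx z * Nat.card (cen z) ^ 2 = Nat.card (cen z) * (Nat.card (cen z) * idx z) := by ring
      _ ≤ (nrm' z).index * (Nat.card (cen z) * idx z) :=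
        Nat.mul_le_mul_right _ (le_of_add_le_left g0.card_lt_index)
  have hprod : ∀ a b : G, a * z * a⁻¹ * (b * z * b⁻¹) ∈ cen z →
      a * z * a⁻¹ * (b * z * b⁻¹) ≠ 1 → a * z * a⁻¹ ∈ cen z ∧ b * z * b⁻¹ ∈ cen z := by
    intro a b hk hk1
    have hx : orderOf (a * z * a⁻¹) = 2 := (orderOf_conj_eq a z).trans g0.ord
    have hy : orderOf (b * z * b⁻¹) = 2 := (orderOf_conj_eq b z).trans g0.ord
    generalize a * z * a⁻¹ = x, b * z * b⁻¹ = y at hk hk1 hx hy ⊢
    have hxA : x ∈ cen z := g0.mem x (mem_normalizer_of_meet g0.ct g0.ne_one hk hk1 (by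
      rw [pair_inverts hx hy]; exact inv_mem hk)) hx
    exact ⟨hxA, by simpa using mul_mem (inv_mem hxA) hk⟩
  exact haa (Cfsg.Agent.Lib.Zassenhaus.AbelianChars.involutions_only (cen z) g0.ti g0.lt
    g0.self_cen g0.comm (self_mem z) g0.ord he hK hG hclass hconj hprod a ha)

/-- The centraliser has order `e + 1`. -/
theorem card_cen : Nat.card (cen z) = idx z + 1 := by
  classical
  have := Fintype.ofFinite G
  rw [← g0.card_inv, Nat.card_eq_fintype_card, Nat.card_eq_fintype_card, Fintype.card_subtype,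
    Fintype.card_subtype]
  have h1 : (Finset.univ.filter fun x : G => x ∈ cen z) =
      insert 1 (Finset.univ.filter fun v : G => orderOf v = 2 ∧ v ∈ nrm' z) := by
    ext v
    simp only [Finset.mem_filter, Finset.mem_univ, true_and, Finset.mem_insert]
    constructor
    · intro hv; by_cases hv1 : v = 1
      · exact Or.inl hv1
      · exact Or.inr ⟨invol_iff.2 ⟨g0.sq_eq_one v hv, hv1⟩, Subgroup.le_normalizer hv⟩
    · rintro (rfl | hv)
      · exact one_mem _
      · exact g0.mem v hv.2 hv.1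
  rw [h1, Finset.card_insert_of_notMem (by simp)]

/-- Every involution centraliser is elementary. -/
theorem sq_of_commute {u w : G} (hu : orderOf u = 2) (hw : w ∈ cen u) : w * w = 1 := by
  obtain ⟨g, hg⟩ := isConj_iff.1 (g0.isConj_invol hu)
  rw [← hg, mem_cen_conj] at hw
  have := g0.sq_eq_one _ hw
  calc w * w = g * (g⁻¹ * w * g * (g⁻¹ * w * g)) * g⁻¹ := by group
    _ = 1 := by rw [this, mul_one, mul_inv_cancel]

end Good

end Cfsg.Agent.Lib.CASimple67
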